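import Mathlib
import Cfsg.Agent.S0205
import Cfsg.Agent.Lib.Cores.Fitting
import Cfsg.Agent.Lib.Cores.Subnormal
import Cfsg.Agent.Lib.Hall.Solvable
import Cfsg.Agent.Lib.Hall.MinimalNormal
import Cfsg.Agent.Lib.Characters.Burnside

/-!
# Groups in which non-subnormal two-prime subgroups have maximal normalizers

Reduction modulo the solvable radical and uniqueness of the socle factor.
-/

set_option autoImplicit false
set_option linter.unusedSectionVars false
set_option linter.style.haveILetI false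

namespace Cfsg.Agent.MaxNormalizer.Basic

open Subgroup

universe u

/-- At most two prime divisors. -/
def TwoPrimes (n : ℕ) : Prop :=
  ∃ p q : ℕ, p.Prime ∧ q.Prime ∧ ∀ r : ℕ, r.Prime → r ∣ n → r = p ∨ r = q

/-- Normalizers of nontrivial two-prime subgroups are maximal. -/
def Hyp (G : Type*) [Group G] : Prop :=
  ∀ H : Subgroup G, H ≠ ⊥ → TwoPrimes (Nat.card H) → IsCoatom (normalizer (H : Set G))

/-- No nontrivial solvable normal subgroup. -/
def TrivRad (G : Type*) [Group G] : Prop :=
  ∀ N : Subgroup G, N.Normal → Group.IsSolvable N → N = ⊥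

theorem TwoPrimes.mono {m n : ℕ} (h : TwoPrimes n) (hd : m ∣ n) : TwoPrimes m := by
  obtain ⟨p, q, hp, hq, h⟩ := h
  exact ⟨p, q, hp, hq, fun r hr hrm => h r hr (hrm.trans hd)⟩

theorem twoPrimes_pow_mul {p q : ℕ} (hp : p.Prime) (hq : q.Prime) (a b : ℕ) :
    TwoPrimes (p ^ a * q ^ b) := by
  refine ⟨p, q, hp, hq, fun r hr hd => ?_⟩
  rcases hr.dvd_mul.1 hd with h | h
  · exact Or.inl ((Nat.prime_dvd_prime_iff_eq hr hp).1 (hr.dvd_of_dvd_pow h))
  · exact Or.inr ((Nat.prime_dvd_prime_iff_eq hr hq).1 (hr.dvd_of_dvd_pow h))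

theorem twoPrimes_pow {p : ℕ} (hp : p.Prime) (a : ℕ) : TwoPrimes (p ^ a) := by
  simpa using twoPrimes_pow_mul hp hp a 0

variable {G : Type u} [Group G] [Finite G]

theorem isSolvable_of_twoPrimes {H : Subgroup G} (h : TwoPrimes (Nat.card H)) :
    Group.IsSolvable H := by
  obtain ⟨p, q, hp, hq, hd⟩ := h
  obtain ⟨a, m, hm, he⟩ : ∃ a m, ¬ p ∣ m ∧ Nat.card H = p ^ a * m :=
    Nat.exists_eq_pow_mul_and_not_dvd Nat.card_pos.ne' p hp.ne_one
  have hm0 : m ≠ 0 := fun e => hm (e ▸ dvd_zero p)
  obtain ⟨b, hb⟩ : ∃ b, m = q ^ b := ⟨_, Nat.eq_prime_pow_of_unique_prime_dvd hm0 fun {r} hr hrm =>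
    (hd r hr (he ▸ dvd_mul_of_dvd_right hrm _)).resolve_left fun e => hm (e ▸ hrm)⟩
  exact Characters.burnside_pa_qb hp hq (he.trans (by rw [hb]))

theorem isSolvable_map {G' : Type*} [Group G'] (f : G →* G') (H : Subgroup G) [Group.IsSolvable H] :
    Group.IsSolvable (H.map f) :=
  Group.isSolvable_of_surjective (f := f.subgroupMap H) (f.subgroupMap_surjective H)

/-- Two elements of a cyclic subgroup: the one of smaller order is a power of the other. -/
theorem mem_zpowers_of_orderOf_dvd {a v w : G} (hv : v ∈ zpowers a) (hw : w ∈ zpowers a)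
    (h : orderOf w ∣ orderOf v) : w ∈ zpowers v := by
  classical
  set v' : zpowers a := ⟨v, hv⟩
  set w' : zpowers a := ⟨w, hw⟩
  haveI := Fintype.ofFinite (zpowers a)
  have hov : orderOf v' = orderOf v := Subgroup.orderOf_mk _ _
  have hsub : (zpowers v' : Set (zpowers a)).toFinset ⊆
      Finset.univ.filter fun x : zpowers a => x ^ orderOf v = 1 := by
    intro x hx
    obtain ⟨k, rfl⟩ := mem_zpowers_iff.1 (Set.mem_toFinset.1 hx)
    refine Finset.mem_filter.2 ⟨Finset.mem_univ _, ?_⟩
    rw [← zpow_natCast, ← zpow_mul, mul_comm, zpow_mul, zpow_natCast, ← hov, pow_orderOf_eq_one,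
      one_zpow]
  have heq := Finset.eq_of_subset_of_card_le hsub (by
    refine (IsCyclic.card_pow_eq_one_le (orderOf_pos v)).trans_eq ?_
    rw [Set.toFinset_card, ← Nat.card_eq_fintype_card, ← hov]
    exact (Nat.card_zpowers v').symm)
  have hw' : w' ∈ zpowers v' := by
    refine Set.mem_toFinset.1 (heq ▸ Finset.mem_filter.2 ⟨Finset.mem_univ _, ?_⟩)
    exact Subtype.ext (orderOf_dvd_iff_pow_eq_one.1 h)
  obtain ⟨k, hk⟩ := mem_zpowers_iff.1 hw'
  exact mem_zpowers_iff.2 ⟨k, congrArg Subtype.val hk⟩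

theorem eq_one_or_of_mem_zpowers {t w : G} (ht : orderOf t = 2) (h : w ∈ zpowers t) : w = 1 ∨ w = t := by
  obtain ⟨k, rfl⟩ := mem_zpowers_iff.1 h
  rw [← zpow_mod_orderOf, ht]
  rcases Int.emod_two_eq k with e | e
  · left; rw [Nat.cast_two, e, zpow_zero]
  · right; rw [Nat.cast_two, e, zpow_one]

theorem solvable_of_comm {A : Type*} [Group A] [hA : IsMulCommutative A] : Group.IsSolvable A :=
  Group.isSolvable_of_comm fun a b => hA.is_comm.comm a b

theorem nilpotent_of_comm {A : Type*} [Group A] [hA : IsMulCommutative A] : Group.IsNilpotent A := by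
  open scoped IsMulCommutative in infer_instance

theorem centralizer_ne_top (hR : TrivRad G) {x : G} (hx : x ≠ 1) : centralizer ({x} : Set G) ≠ ⊤ := by
  intro h
  have hc : x ∈ center G := mem_center_iff.2 fun g =>
    mem_centralizer_singleton_iff.1 (h ▸ mem_top g)
  rw [hR (center G) inferInstance solvable_of_comm, mem_bot] at hc
  exact hx hc

/-- A solvable subnormal subgroup is trivial. -/
theorem eq_bot_of_isSubnormal (hR : TrivRad G) :
    ∀ (n : ℕ) {S : Subgroup G}, Nat.card S = n → S.IsSubnormal → Group.IsSolvable S → S = ⊥ := by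
  intro n
  induction n using Nat.strong_induction_on with
  | _ n ih =>
  intro S hn hS hsol
  by_contra hne
  haveI : Nontrivial S := S.nontrivial_iff_ne_bot.2 hne
  have hlt : ⁅S, S⁆ < S := by
    refine lt_of_le_of_ne S.commutator_le_self fun e => ?_
    refine (Group.IsSolvable.commutator_lt_top_of_nontrivial S).ne
      (Subgroup.map_injective S.subtype_injective ?_)
    rw [Subgroup.map_subtype_commutator, e, ← MonoidHom.range_eq_map, Subgroup.range_subtype]
  have hD : ⁅S, S⁆ = ⊥ := by
    refine ih (Nat.card ↥⁅S, S⁆) ?_ rfl ?_ (Group.isSolvable_of_isSolvable_injective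
      (Subgroup.inclusion_injective hlt.le))
    · rw [← hn]
      refine lt_of_le_of_ne (card_le_of_le hlt.le) fun e => hlt.ne ?_
      exact eq_of_le_of_card_ge hlt.le e.ge
    · refine IsSubnormal.step _ S hlt.le hS ?_
      rw [normal_subgroupOf_iff_le_normalizer hlt.le]
      exact le_normalizer_iff.2 fun s hs c hc => by
        rw [← map_subtype_commutator] at hc ⊢
        obtain ⟨d, hd, rfl⟩ := hc
        exact ⟨⟨s, hs⟩ * d * ⟨s, hs⟩⁻¹, Normal.conj_mem inferInstance _ hd _, rfl⟩
  haveI : IsMulCommutative S := commutator_self_eq_bot_iff.1 hD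
  have hF := Cores.le_fittingSubgroup_of_isSubnormal hS nilpotent_of_comm
  have hF0 : Cfsg.fittingSubgroup G = ⊥ := hR _ inferInstance (by
    haveI := Cores.fittingSubgroup_isNilpotent (G := G)
    infer_instance)
  exact hne (le_bot_iff.1 (hF0 ▸ hF))

theorem two_dvd_of_not_solvable {H : Subgroup G} (h : ¬ Group.IsSolvable H) : 2 ∣ Nat.card H := by
  by_contra h2
  exact h (S0205.result (Nat.odd_iff.2 (by omega)))

/-- A subnormal subgroup centralized by a subgroup of even order meeting it trivially is trivial. -/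
theorem eq_bot_of_commute (hX : Hyp G) (hR : TrivRad G) {T U : Subgroup G} (hT : 2 ∣ Nat.card T)
    (hcomm : ∀ a ∈ T, ∀ b ∈ U, Commute a b) (hinf : T ⊓ U = ⊥) (hU : U.IsSubnormal) : U = ⊥ := by
  haveI : Fact (Nat.Prime 2) := ⟨Nat.prime_two⟩
  by_contra hne
  obtain ⟨q, hq, hq2, hqd⟩ : ∃ q, q.Prime ∧ q ≠ 2 ∧ q ∣ Nat.card U := by
    by_contra h
    push Not at h
    exact hne (eq_bot_of_isSubnormal hR _ rfl hU (isSolvable_of_twoPrimes
      ⟨2, 2, Nat.prime_two, Nat.prime_two, fun r hr hd => Or.inl (by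
        by_contra h'
        exact h r hr h' hd)⟩))
  haveI : Fact q.Prime := ⟨hq⟩
  obtain ⟨⟨t, htT⟩, hto⟩ := exists_prime_orderOf_dvd_card' (G := T) 2 hT
  obtain ⟨⟨x, hxU⟩, hxo⟩ := exists_prime_orderOf_dvd_card' (G := U) q hqd
  rw [orderOf_mk] at hto hxo
  have htx := hcomm t htT x hxU
  have ho : orderOf (t * x) = 2 * q := by
    rw [htx.orderOf_mul_eq_mul_orderOf_of_coprime, hto, hxo]
    rw [hto, hxo]
    exact (Nat.coprime_primes Nat.prime_two hq).2 (Ne.symm hq2)
  have ht : t ∈ zpowers (t * x) := by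
    refine mem_zpowers_iff.2 ⟨q, ?_⟩
    rw [zpow_natCast, htx.mul_pow, ← hxo, pow_orderOf_eq_one, mul_one, hxo]
    rw [← pow_mod_orderOf, hto, Nat.odd_iff.1 (hq.odd_of_ne_two hq2), pow_one]
  have hx : x ∈ zpowers (t * x) := by
    have := mul_mem (inv_mem ht) (mem_zpowers (t * x))
    rwa [inv_mul_cancel_left] at this
  set H := zpowers (t * x) with hHdef
  have hH : IsCoatom (normalizer (H : Set G)) := hX H (fun e => by
      have := mem_zpowers (t * x)
      rw [← hHdef, e, mem_bot] at this
      rw [this, orderOf_one] at ho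
      omega) (by
    rw [Nat.card_zpowers, ho]
    simpa using twoPrimes_pow_mul Nat.prime_two hq 1 1)
  have hle : normalizer (H : Set G) ≤ centralizer ({t} : Set G) := by
    intro g hg
    have h1 : g * t * g⁻¹ ∈ zpowers t := mem_zpowers_of_orderOf_dvd ht
      ((mem_normalizer_iff.1 hg t).1 ht) (by rw [← MulAut.conj_apply, MulEquiv.orderOf_eq])
    rcases eq_one_or_of_mem_zpowers hto h1 with e | e
    · rw [conj_eq_one_iff.1 e, orderOf_one] at hto; omega
    · exact mem_centralizer_singleton_iff.2 (mul_inv_eq_iff_eq_mul.1 e)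
  have hx1 : x ≠ 1 := fun e => by rw [e, orderOf_one] at hxo; exact hq.ne_one hxo.symm
  have ht1 : t ≠ 1 := fun e => by rw [e, orderOf_one] at hto; omega
  have heq : normalizer (H : Set G) = centralizer ({t} : Set G) :=
    (hle.eq_or_lt.resolve_right fun hlt => centralizer_ne_top hR ht1 (hH.2 _ hlt))
  have hxle : zpowers x ≤ U := zpowers_le.2 hxU
  have hsub : (zpowers x).IsSubnormal := by
    refine IsSubnormal.step _ U hxle hU ?_
    rw [normal_subgroupOf_iff_le_normalizer hxle]
    refine le_normalizer_iff.2 fun w hw c hc => ?_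
    obtain ⟨k, rfl⟩ := mem_zpowers_iff.1 hc
    rw [← conj_zpow]
    refine zpow_mem (mem_zpowers_of_orderOf_dvd hx ?_ (by rw [← MulAut.conj_apply, MulEquiv.orderOf_eq])) k
    refine (mem_normalizer_iff.1 (heq ▸ ?_ : w ∈ normalizer (H : Set G)) x).1 hx
    exact mem_centralizer_singleton_iff.2 (hcomm t htT w hw).eq.symm
  have := eq_bot_of_isSubnormal hR _ rfl hsub inferInstance
  exact hx1 (mem_bot.1 (this ▸ mem_zpowers x))

theorem isSubnormal_map_subtype {T : Subgroup G} [T.Normal] (M : Subgroup T) [M.Normal] :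
    (M.map T.subtype).IsSubnormal :=
  IsSubnormal.trans' (Normal.isSubnormal inferInstance) (Normal.isSubnormal inferInstance)

/-- The socle is simple and self-centralizing. -/
theorem exists_socle [Nontrivial G] (hX : Hyp G) (hR : TrivRad G) :
    ∃ T : Subgroup G, T.Normal ∧ IsSimpleGroup T ∧ ¬ IsMulCommutative T ∧
      centralizer (T : Set G) = ⊥ := by
  obtain ⟨T, hTn, -, hT1, hmin⟩ := Hall.exists_minimal_normal (⊤ : Subgroup G) top_ne_bot
  haveI := hTn
  haveI : Nontrivial T := T.nontrivial_iff_ne_bot.2 hT1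
  have hns : ¬ Group.IsSolvable T := fun h => hT1 (hR T hTn h)
  -- minimal normal subgroups of `T` are `T`
  have hM : ∀ M : Subgroup T, M.Normal → M ≠ ⊥ →
      (∀ K : Subgroup T, K.Normal → K ≤ M → K = ⊥ ∨ K = M) → M = ⊤ := by
    intro M hMn hM1 hMmin
    haveI := hMn
    have hsn := isSubnormal_map_subtype M
    have hM1' : M.map T.subtype ≠ ⊥ := fun e => hM1 ((map_eq_bot_iff_of_injective M T.subtype_injective).1 e)
    have hMns : ¬ Group.IsSolvable (M.map T.subtype) := fun h => hM1' (eq_bot_of_isSubnormal hR _ rfl hsn h)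
    have hCn : (centralizer (M : Set T)).Normal := inferInstance
    have hinf : M ⊓ centralizer (M : Set T) = ⊥ := by
      haveI : IsMulCommutative (M ⊓ centralizer (M : Set T) : Subgroup T) :=
        ⟨⟨fun a b => Subtype.ext (b.2.2 a a.2.1)⟩⟩
      haveI := solvable_of_comm (A := (M ⊓ centralizer (M : Set T) : Subgroup T))
      haveI : Group.IsSolvable ((M ⊓ centralizer (M : Set T) : Subgroup T).map T.subtype) :=
        isSolvable_map _ _
      exact (map_eq_bot_iff_of_injective _ T.subtype_injective).1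
        (eq_bot_of_isSubnormal hR _ rfl (isSubnormal_map_subtype _) inferInstance)
    have hC : centralizer (M : Set T) = ⊥ := by
      refine (map_eq_bot_iff_of_injective _ T.subtype_injective).1
        (eq_bot_of_commute hX hR (T := M.map T.subtype) (two_dvd_of_not_solvable hMns) ?_ ?_
          (isSubnormal_map_subtype _))
      · rintro _ ⟨a, ha, rfl⟩ _ ⟨b, hb, rfl⟩
        exact (show Commute a b from hb a ha).map T.subtype
      · rw [← map_inf _ _ _ T.subtype_injective, hinf, Subgroup.map_bot]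
    have hconj : ∀ g : G, M.map (MulAut.conjNormal g : MulAut T).toMonoidHom = M := by
      intro g
      set M' := M.map (MulAut.conjNormal g : MulAut T).toMonoidHom
      haveI : M'.Normal := hMn.map _ (MulEquiv.surjective _)
      have hcard : Nat.card M' = Nat.card M := card_map_of_injective (MulEquiv.injective _)
      rcases hMmin (M ⊓ M') inferInstance inf_le_left with e | e
      · exfalso
        have hle : M' ≤ centralizer (M : Set T) := fun b hb a ha =>
          (commute_of_normal_of_disjoint M M' hMn inferInstance (disjoint_iff.2 e) a b ha hb).eq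
        rw [hC] at hle
        rw [le_bot_iff.1 hle, card_bot] at hcard
        exact hM1 (eq_bot_of_card_eq M hcard.symm)
      · exact (eq_of_le_of_card_ge (inf_eq_left.1 e) hcard.le).symm
    haveI : (M.map T.subtype).Normal := ⟨fun a ha g => by
      obtain ⟨b, hb, rfl⟩ := ha
      exact ⟨MulAut.conjNormal g b, (hconj g).le ⟨b, hb, rfl⟩, MulAut.conjNormal_apply g b⟩⟩
    have h := (hmin (M.map T.subtype) inferInstance (map_subtype_le M)).resolve_left hM1'
    refine map_injective T.subtype_injective ?_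
    rw [h, ← MonoidHom.range_eq_map, range_subtype]
  refine ⟨T, hTn, ⟨fun N hN => ?_⟩, fun hc => hns (solvable_of_comm (hA := hc)), ?_⟩
  · rw [or_iff_not_imp_left]
    intro hN1
    haveI := hN
    obtain ⟨M, hMn, hMN, hM1, hMmin⟩ := Hall.exists_minimal_normal N hN1
    exact top_le_iff.1 (hM M hMn hM1 hMmin ▸ hMN)
  · refine eq_bot_of_commute hX hR (two_dvd_of_not_solvable hns) (fun a ha b hb => hb a ha) ?_
      (Normal.isSubnormal inferInstance)
    haveI : IsMulCommutative (T ⊓ centralizer (T : Set G) : Subgroup G) :=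
      ⟨⟨fun a b => Subtype.ext (b.2.2 a a.2.1)⟩⟩
    exact hR _ inferInstance solvable_of_comm

/-- Reduction modulo the solvable radical. -/
theorem exists_reduction (hG : ¬ Group.IsSolvable G)
    (h : ∀ H : Subgroup G, ¬ H.IsSubnormal → TwoPrimes (Nat.card H) →
      IsCoatom (normalizer (H : Set G))) :
    ∃ (R : Subgroup G) (_ : R.Normal), Group.IsSolvable R ∧ Nontrivial (G ⧸ R) ∧ TrivRad (G ⧸ R) ∧
      Hyp (G ⧸ R) ∧ ∀ H : Subgroup G, ¬ H ≤ R → TwoPrimes (Nat.card H) →
        normalizer (H : Set G) =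
          (normalizer ((H.map (QuotientGroup.mk' R) : Subgroup (G ⧸ R)) : Set (G ⧸ R))).comap
            (QuotientGroup.mk' R) := by
  obtain ⟨R, -, ⟨hRn, hRs⟩, hmax⟩ := exists_maximal_ge_of_wellFoundedGT
    (fun K : Subgroup G => K.Normal ∧ Group.IsSolvable K) ⊥ ⟨inferInstance, inferInstance⟩
  haveI := hRn
  set f := QuotientGroup.mk' R with hf
  have hfs : Function.Surjective f := QuotientGroup.mk'_surjective R
  have hcomap : ∀ N : Subgroup (G ⧸ R), Group.IsSolvable N → Group.IsSolvable (N.comap f) := fun N hN => by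
    have hle : R ≤ N.comap f := fun r hr => by
      rw [mem_comap, hf, QuotientGroup.mk'_apply, (QuotientGroup.eq_one_iff r).2 hr]
      exact one_mem N
    haveI := hRs
    refine Group.isSolvable_of_ker_le_range (Subgroup.inclusion hle) (f.subgroupComap N) fun y hy => ?_
    have : f (y : G) = 1 := congrArg Subtype.val hy
    exact ⟨⟨y, (QuotientGroup.eq_one_iff _).1 this⟩, rfl⟩
  have hR : TrivRad (G ⧸ R) := fun N hN hNs => by
    have hle : R ≤ N.comap f := fun r hr => by
      rw [mem_comap, hf, QuotientGroup.mk'_apply, (QuotientGroup.eq_one_iff r).2 hr]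
      exact one_mem N
    have heq : N.comap f = R := le_antisymm (hmax ⟨hN.comap f, hcomap N hNs⟩ hle) hle
    rw [← map_comap_eq_self_of_surjective hfs N, heq, Subgroup.map_eq_bot_iff, hf, QuotientGroup.ker_mk']
  have hnt : Nontrivial (G ⧸ R) := by
    by_contra hn
    rw [not_nontrivial_iff_subsingleton] at hn
    refine hG ?_
    haveI := hRs
    exact Group.isSolvable_of_ker_le_range R.subtype f (by rw [hf, QuotientGroup.ker_mk', range_subtype])
  have hnorm : ∀ H : Subgroup G, ¬ H ≤ R → TwoPrimes (Nat.card H) →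
      IsCoatom (normalizer (H : Set G)) ∧
        normalizer (H : Set G) = (normalizer ((H.map f : Subgroup (G ⧸ R)) : Set (G ⧸ R))).comap f := by
    intro H hH htp
    have hne : H.map f ≠ ⊥ := by rwa [Ne, Subgroup.map_eq_bot_iff, hf, QuotientGroup.ker_mk']
    haveI := isSolvable_of_twoPrimes htp
    have hsol := isSolvable_map f H
    have hco := h H (fun hs => hne (eq_bot_of_isSubnormal hR _ rfl (hs.map hfs) hsol)) htp
    refine ⟨hco, ?_⟩
    have hle : normalizer (H : Set G) ≤ (normalizer ((H.map f : Subgroup (G ⧸ R)) : Set (G ⧸ R))).comap f :=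
      map_le_iff_le_comap.1 (H.le_normalizer_map f)
    refine hle.eq_or_lt.resolve_right fun hlt => hne ?_
    have htop := hco.2 _ hlt
    haveI : (H.map f).Normal := normalizer_eq_top_iff.1 (by
      rw [← map_comap_eq_self_of_surjective hfs (normalizer ((H.map f : Subgroup (G ⧸ R)) : Set (G ⧸ R))),
        htop, map_top_of_surjective f hfs])
    exact hR _ inferInstance hsol
  refine ⟨R, hRn, hRs, hnt, hR, fun H hH htp => ?_, fun H h1 h2 => (hnorm H h1 h2).2⟩
  -- lift a subgroup through a Hall subgroup of its solvable preimage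
  obtain ⟨p, q, hp, hq, hpq⟩ := htp
  haveI := hcomap H (isSolvable_of_twoPrimes ⟨p, q, hp, hq, hpq⟩)
  obtain ⟨K, hK⟩ := Hall.exists_hall ({p, q} : Set ℕ) (H.comap f)
  have hψ : Function.Surjective (f.subgroupComap H) := fun y => by
    obtain ⟨x, hx⟩ := hfs y
    exact ⟨⟨x, by rw [mem_comap, hx]; exact y.2⟩, Subtype.ext hx⟩
  have hKtop : K.map (f.subgroupComap H) = ⊤ := by
    rw [← index_eq_one]
    by_contra hne
    obtain ⟨r, hr, hrd⟩ := Nat.exists_prime_and_dvd hne
    exact (Hall.isPiHall_map hK hψ).2 r hr (hpq r hr (hrd.trans (index_dvd_card _))) hrd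
  set L : Subgroup G := K.map (H.comap f).subtype with hL
  have hLH : L.map f = H := by
    refine le_antisymm ?_ fun y hy => ?_
    · rintro _ ⟨_, ⟨k, -, rfl⟩, rfl⟩
      exact k.2
    · obtain ⟨k, hk, hke⟩ : (⟨y, hy⟩ : H) ∈ K.map (f.subgroupComap H) := hKtop ▸ mem_top _
      exact ⟨k, ⟨k, hk, rfl⟩, congrArg Subtype.val hke⟩
  have hLR : ¬ L ≤ R := fun hle => hH (by
    rw [← hLH, Subgroup.map_eq_bot_iff, hf, QuotientGroup.ker_mk']
    exact hle)
  obtain ⟨hco, heq⟩ := hnorm L hLR ⟨p, q, hp, hq, fun r hr hrd => by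
    rw [hL, card_map_of_injective (H.comap f).subtype_injective] at hrd
    exact hK.1 r hr hrd⟩
  rw [hLH] at heq
  rw [heq] at hco
  refine ⟨fun htop => hco.1 (by rw [htop, comap_top]), fun M hM => ?_⟩
  have := hco.2 _ ((comap_lt_comap_of_surjective hfs).2 hM)
  rw [← map_comap_eq_self_of_surjective hfs M, this, map_top_of_surjective f hfs]

end Cfsg.Agent.MaxNormalizer.Basic
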