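import Cfsg.Agent.Lib.MaxNormalizer.Linear
import Cfsg.Agent.Lib.GW.ConsCover
import Cfsg.Agent.Lib.Transfer.CenterInf
import Cfsg.Agent.Lib.Classical.GL2
import Cfsg.Agent.Lib.Classical.SylowSL2

/-!
# `PSL₂(13)` and its perfect central extensions
-/

set_option autoImplicit false
set_option linter.unusedSectionVars false
set_option linter.style.haveILetI false

namespace Cfsg.Agent.MaxNormalizer.Cover

open Subgroup Cfsg.Agent.Forms.KleinPSL

universe u

instance fact13 : Fact (Nat.Prime 13) := ⟨by norm_num⟩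

/-- The group `PSL₂(13)`. -/
abbrev Q : Type := Matrix.ProjectiveSpecialLinearGroup (Fin 2) (ZMod 13)

theorem card_Q : Nat.card Q = 1092 := by
  have h := Classical.SmallIso.natCard_pslTwo (ZMod 13)
  rw [Classical.GL2.natCard_SL_two, ZMod.card] at h
  generalize Nat.card (Matrix.ProjectiveSpecialLinearGroup (Fin 2) (ZMod 13)) = c at h ⊢
  norm_num at h
  omega

theorem two_ne : (2 : ZMod 13) ≠ 0 := by decide

theorem isSimple : IsSimpleGroup Q :=
  Classical.Linear.isSimpleGroup_PSL_fin (F := ZMod 13) (n := 2) le_rfl (fun _ => by rw [ZMod.card]; omega)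

theorem perfect : commutator Q = ⊤ := by
  have h := Classical.SL2Rep.commutator_two_eq_top (F := ZMod 13) (by rw [ZMod.card]; omega)
  have hs : Function.Surjective (pi (ZMod 13)) := pi_surjective
  rw [_root_.commutator_def, ← map_top_of_surjective _ hs, ← map_commutator, ← _root_.commutator_def, h]

/-- A four-group with an element permuting it. -/
theorem exists_four : ∃ a b k : Q, orderOf a = 2 ∧ orderOf b = 2 ∧ a ≠ b ∧ Commute a b ∧
    k * a * k⁻¹ = b ∧ k * b * k⁻¹ = a * b := by
  set I : Matrix.SpecialLinearGroup (Fin 2) (ZMod 13) := ⟨!![0, 1; -1, 0], by simp [Matrix.det_fin_two]⟩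
  set J : Matrix.SpecialLinearGroup (Fin 2) (ZMod 13) := ⟨!![5, 0; 0, 8], by decide +kernel⟩
  have hI : I * I = -1 := by decide +kernel
  have hJ : J * J = -1 := by decide +kernel
  have ha := (orderOf_pi_eq_two two_ne).2 hI
  have hb := (orderOf_pi_eq_two two_ne).2 hJ
  have hne : pi (ZMod 13) I ≠ pi (ZMod 13) J := fun e => by
    rcases pi_eq_iff.1 e with h | h <;>
    · have := congrArg (fun Y : Matrix.SpecialLinearGroup (Fin 2) (ZMod 13) =>
        (Y : Matrix (Fin 2) (Fin 2) (ZMod 13)) 0 1) h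
      revert this
      decide +kernel
  have hIJ : I * J = -(J * I) := by decide +kernel
  have hc : Commute (pi (ZMod 13) I) (pi (ZMod 13) J) := by
    show _ * _ = _ * _
    rw [← map_mul, ← map_mul, hIJ, pi_neg]
  obtain ⟨k, h1, h2⟩ := Linear.exists_cycle two_ne ha hb hne hc
  exact ⟨_, _, k, ha, hb, hne, hc, h1, h2⟩

theorem exists_sylow_two : ∃ T : Sylow 2 Q, Nonempty ((T : Subgroup Q) ≃* DihedralGroup 2) := by
  haveI : Fact (Nat.Prime 2) := ⟨Nat.prime_two⟩
  obtain ⟨a, b, -, ha, hb, hne, hc, -, -⟩ := exists_four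
  set V := kSub a b (mul_self_of_order_two ha) (mul_self_of_order_two hb) hc
  haveI hK : IsKleinFour V := kSub_isKleinFour (ne_one_of_order_two ha) (ne_one_of_order_two hb) hne
  have h0 : (273 : ℕ).factorization 2 = 0 := Nat.factorization_eq_zero_of_not_dvd (by norm_num)
  have hcard : Nat.card V = 2 ^ (Nat.card Q).factorization 2 := by
    rw [natCard_kSub (ne_one_of_order_two ha) (ne_one_of_order_two hb) hne, card_Q,
      show (1092 : ℕ) = 2 ^ 2 * 273 by norm_num,
      Nat.factorization_mul (by norm_num) (by norm_num), Finsupp.add_apply, h0,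
      Nat.Prime.factorization_pow Nat.prime_two, Finsupp.single_eq_same]
    norm_num
  exact ⟨Sylow.ofCard V hcard, IsKleinFour.nonempty_mulEquiv (G₁ := V)⟩

theorem sq_not_dvd {l : ℕ} (hl : l.Prime) (h2 : l ≠ 2) : ¬ l ^ 2 ∣ 1092 := fun h => by
  have hle : l ≤ 33 := by
    have := Nat.le_of_dvd (by norm_num) h
    by_contra hc
    have : 34 * 34 ≤ l ^ 2 := by rw [pow_two]; exact Nat.mul_le_mul (by omega) (by omega)
    omega
  interval_cases l <;> norm_num at *

/-- A perfect central extension of `PSL₂(13)`. -/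
theorem identify {K : Type u} [Group K] [Finite K] (π : K →* Q) (hπ : Function.Surjective π)
    (hK : commutator K = ⊤) (hc : π.ker ≤ center K) :
    (π.ker = ⊥ ∧ Nonempty (K ≃* Q)) ∨
      (Nat.card π.ker = 2 ∧ Nonempty (K ≃* Matrix.SpecialLinearGroup (Fin 2) (ZMod 13))) := by
  obtain ⟨T, ⟨eT⟩⟩ := exists_sylow_two
  have hker2 : IsPGroup 2 π.ker := by
    haveI : Fact (Nat.Prime 2) := ⟨Nat.prime_two⟩
    rw [IsPGroup.iff_card]
    refine ⟨_, Nat.eq_prime_pow_of_unique_prime_dvd Nat.card_pos.ne' fun {l} hl hd => ?_⟩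
    by_contra hl2
    haveI : Fact l.Prime := ⟨hl⟩
    obtain ⟨⟨z, hz⟩, hzo⟩ := exists_prime_orderOf_dvd_card' (G := π.ker) l hd
    rw [orderOf_mk] at hzo
    obtain ⟨P, hP⟩ := (IsPGroup.of_card (p := l) (n := 1) (by rw [Nat.card_zpowers, hzo, pow_one]) :
      IsPGroup l (zpowers z)).exists_le_sylow
    -- the Sylow subgroup is abelian
    haveI : IsMulCommutative (P : Subgroup K) := by
      set φ := π.subgroupMap (P : Subgroup K)
      haveI : IsCyclic ((P : Subgroup K).map π) := by
        obtain ⟨j, hj⟩ := (P.2.map π).exists_card_eq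
        have hdvd : l ^ j ∣ 1092 := hj ▸ card_Q ▸ card_subgroup_dvd_card _
        have hj1 : j ≤ 1 := by
          by_contra hj2
          exact sq_not_dvd hl hl2 ((pow_dvd_pow l (by omega : 2 ≤ j)).trans hdvd)
        interval_cases j
        · haveI : Subsingleton ((P : Subgroup K).map π) :=
            (Nat.card_eq_one_iff_unique.1 (by simpa using hj)).1
          infer_instance
        · exact isCyclic_of_prime_card (by simpa using hj)
      refine φ.isMulCommutative_of_isCyclic_of_ker_le_center (fun w hw => ?_)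
      rw [mem_center_iff]
      intro v
      refine Subtype.ext (mem_center_iff.1 (hc ?_) v)
      exact MonoidHom.mem_ker.2 (congrArg Subtype.val (MonoidHom.mem_ker.1 hw))
    have hone := Transfer.CenterInf.inf_commutator_inf_center (P : Subgroup K) P.card_coprime_index
    have hz1 : z ∈ (⊥ : Subgroup K) := hone ▸ ⟨⟨hP (mem_zpowers z), hK ▸ mem_top z⟩, hc hz⟩
    rw [mem_bot] at hz1
    rw [hz1, orderOf_one] at hzo
    exact hl.ne_one hzo.symm
  haveI : NeZero (2 : ℕ) := ⟨two_ne_zero⟩
  have hle := GW.Cons.kernel_le_two hK π hπ hc hker2 T eT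
  have hpos : 0 < Nat.card π.ker := Nat.card_pos
  rcases (by omega : Nat.card π.ker = 1 ∨ Nat.card π.ker = 2) with h1 | h2
  · have hbot : π.ker = ⊥ := eq_bot_of_card_eq π.ker h1
    exact Or.inl ⟨hbot, ⟨MulEquiv.ofBijective π ⟨(MonoidHom.ker_eq_bot_iff π).1 hbot, hπ⟩⟩⟩
  · have hD := GW.Cons.sl_double (ZMod 13) (by rw [ZMod.card]; decide) (by rw [ZMod.card]; norm_num)
    exact Or.inr ⟨h2, GW.Cons.double_unique ⟨hK, hπ, hc, h2⟩ hD T eT⟩

end Cfsg.Agent.MaxNormalizer.Cover
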