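import Mathlib
import Cfsg.Agent.Lib.Forms.KleinPSL
import Cfsg.Agent.Lib.AutPSL.Out

/-!
# Facts on `PSL₂(q)`, `q` odd, for groups with maximal normalizers

Unipotent elements, the cyclic permutation of a four-group, automorphisms fixing a four-group.
-/

set_option autoImplicit false
set_option linter.unusedSectionVars false

namespace Cfsg.Agent.MaxNormalizer.Linear

open Matrix Cfsg.Agent.Forms.KleinPSL Cfsg.Agent.AutPSL.Basic
open scoped MatrixGroups

variable {F : Type} [Field F] [Fintype F]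

local notation "PG" => Matrix.ProjectiveSpecialLinearGroup (Fin 2) F
local notation "M2" => Matrix (Fin 2) (Fin 2) F

/-- The shape of a square root of `-1`. -/
theorem shape {X : SL(2, F)} (hX : X * X = -1) :
    (X : M2) 1 1 = -(X : M2) 0 0 ∧
      (X : M2) 0 0 * (X : M2) 0 0 + (X : M2) 0 1 * (X : M2) 1 0 = -1 := by
  have hi : X⁻¹ = -X := inv_eq_of_mul_eq_one_right (by rw [mul_neg, hX, neg_neg])
  have h := congrArg (fun Y : SL(2, F) => (Y : M2) 0 0) hi
  simp only [Matrix.SpecialLinearGroup.coe_inv, Matrix.adjugate_fin_two,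
    Matrix.SpecialLinearGroup.coe_neg] at h
  simp at h
  refine ⟨h, ?_⟩
  have hd := X.2
  rw [Matrix.det_fin_two, h] at hd
  linear_combination -hd

/-- Two commuting distinct involutions lift to anticommuting square roots of `-1`. -/
theorem exists_lifts (h2 : (2 : F) ≠ 0) {a b : PG} (ha : orderOf a = 2) (hb : orderOf b = 2)
    (hne : a ≠ b) (hc : Commute a b) :
    ∃ I J : SL(2, F), pi F I = a ∧ pi F J = b ∧ I * I = -1 ∧ J * J = -1 ∧ J * I = -(I * J) := by
  obtain ⟨I, rfl⟩ := pi_surjective a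
  obtain ⟨J, rfl⟩ := pi_surjective b
  have hI := (orderOf_pi_eq_two h2).1 ha
  have hJ := (orderOf_pi_eq_two h2).1 hb
  exact ⟨I, J, rfl, rfl, hI, hJ, anti_of_comm h2 hI hJ hne hc⟩

theorem coe_sq {X : SL(2, F)} (hX : X * X = -1) : (X : M2) * (X : M2) = -1 := by
  rw [← Matrix.SpecialLinearGroup.coe_mul, hX, Matrix.SpecialLinearGroup.coe_neg,
    Matrix.SpecialLinearGroup.coe_one]

theorem det_one_add {X : SL(2, F)} (hX : X * X = -1) : (1 + (X : M2)).det = 2 := by
  obtain ⟨h1, h2⟩ := shape hX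
  rw [Matrix.det_fin_two]
  simp [Matrix.add_apply, h1]
  linear_combination -h2

/-- An element permuting the involutions of a four-group cyclically. -/
theorem exists_cycle (h2 : (2 : F) ≠ 0) {a b : PG} (ha : orderOf a = 2) (hb : orderOf b = 2)
    (hne : a ≠ b) (hc : Commute a b) : ∃ n : PG, n * a * n⁻¹ = b ∧ n * b * n⁻¹ = a * b := by
  obtain ⟨I, J, rfl, rfl, hI, hJ, hJI⟩ := exists_lifts h2 ha hb hne hc
  have eI := coe_sq hI
  have eJ := coe_sq hJ
  have eA : (J : M2) * (I : M2) = -((I : M2) * (J : M2)) := by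
    rw [← Matrix.SpecialLinearGroup.coe_mul, hJI, Matrix.SpecialLinearGroup.coe_neg,
      Matrix.SpecialLinearGroup.coe_mul]
  set W0 : M2 := (1 + (I : M2)) * (1 + (J : M2)) with hW0
  let W : SL(2, F) := ⟨(2⁻¹ : F) • W0, by
    rw [Matrix.det_smul, Fintype.card_fin, hW0, Matrix.det_mul, det_one_add hI, det_one_add hJ]
    field_simp⟩
  have hW : (W : M2) = (2⁻¹ : F) • W0 := rfl
  have y2 : (J : M2) * ((I : M2) * (J : M2)) = (I : M2) := by
    rw [← mul_assoc, eA, neg_mul, mul_assoc, eJ, mul_neg, mul_one, neg_neg]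
  have y1 : (I : M2) * ((I : M2) * (J : M2)) = -(J : M2) := by
    rw [← mul_assoc, eI, neg_mul, one_mul]
  have e1 : W0 * (I : M2) = (J : M2) * W0 := by
    have x1 : (I : M2) * ((J : M2) * (I : M2)) = (J : M2) := by
      rw [eA, mul_neg, ← mul_assoc, eI, neg_mul, one_mul, neg_neg]
    have x2 : (J : M2) * ((I : M2) * (J : M2)) = (I : M2) := by
      rw [← mul_assoc, eA, neg_mul, mul_assoc, eJ, mul_neg, mul_one, neg_neg]
    simp only [hW0, add_mul, mul_add, one_mul, mul_one, mul_neg, neg_mul, neg_neg, mul_assoc, eI, eA, x1, x2, y1, eJ]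
    abel
  have e2 : W0 * (J : M2) = (I : M2) * (J : M2) * W0 := by
    have x1 : (I : M2) * ((J : M2) * (J : M2)) = -(I : M2) := by rw [eJ, mul_neg, mul_one]
    have x2 : (I : M2) * ((J : M2) * (I : M2)) = (J : M2) := by
      rw [eA, mul_neg, ← mul_assoc, eI, neg_mul, one_mul, neg_neg]
    have x3 : (I : M2) * ((J : M2) * ((I : M2) * (J : M2))) = -1 := by
      rw [y2, eI]
    simp only [hW0, add_mul, mul_add, one_mul, mul_one, mul_assoc, x1, x2, x3, eJ]
    abel
  have f1 : W * I = J * W := Subtype.ext (by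
    rw [Matrix.SpecialLinearGroup.coe_mul, Matrix.SpecialLinearGroup.coe_mul, hW, Matrix.smul_mul,
      Matrix.mul_smul, e1])
  have f2 : W * J = I * J * W := Subtype.ext (by
    rw [Matrix.SpecialLinearGroup.coe_mul, Matrix.SpecialLinearGroup.coe_mul,
      Matrix.SpecialLinearGroup.coe_mul, hW, Matrix.smul_mul, Matrix.mul_smul, e2])
  refine ⟨pi F W, ?_, ?_⟩
  · rw [← map_mul, f1, map_mul, mul_inv_cancel_right]
  · rw [← map_mul, f2, map_mul, map_mul, mul_inv_cancel_right]

/-- A unipotent element by its entry. -/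
def uniSL (b : F) : SL(2, F) := ⟨!![1, b; 0, 1], by simp [Matrix.det_fin_two]⟩

theorem coe_uniSL (b : F) : (uniSL b : M2) = !![1, b; 0, 1] := rfl

/-- The unipotent elements. -/
def uni (F : Type) [Field F] [Fintype F] : Multiplicative F →* Matrix.ProjectiveSpecialLinearGroup (Fin 2) F :=
  (pi F).comp
    { toFun := fun b => uniSL b.toAdd
      map_one' := Subtype.ext (by
        rw [coe_uniSL, Matrix.SpecialLinearGroup.coe_one]
        simp [Matrix.one_fin_two])
      map_mul' := fun b c => Subtype.ext (by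
        rw [Matrix.SpecialLinearGroup.coe_mul, coe_uniSL, coe_uniSL, coe_uniSL]
        ext i j
        fin_cases i <;> fin_cases j <;> simp [Matrix.mul_apply, Fin.sum_univ_two, add_comm]) }

theorem uni_eq (b : F) : uni F (Multiplicative.ofAdd b) = pi F (uniSL b) := rfl

theorem uni_injective (h2 : (2 : F) ≠ 0) : Function.Injective (uni F) := by
  intro b c h
  rw [← ofAdd_toAdd b, ← ofAdd_toAdd c, uni_eq, uni_eq, pi_eq_iff] at h
  rcases h with h | h
  · exact congrArg Multiplicative.ofAdd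
      (congrArg (fun Y : SL(2, F) => (Y : M2) 0 1) h : b.toAdd = c.toAdd)
  · have h' := congrArg (fun Y : SL(2, F) => (Y : M2) 0 0) h
    simp [coe_uniSL] at h'
    exact absurd (by linear_combination h' : (2 : F) = 0) h2

theorem commute_uni (h2 : (2 : F) ≠ 0) {c : PG} (h : Commute c (uni F (Multiplicative.ofAdd 1))) :
    ∃ b : F, c = uni F (Multiplicative.ofAdd b) := by
  obtain ⟨C, rfl⟩ := pi_surjective c
  rw [uni_eq] at h
  obtain ⟨s, hs, hC⟩ : ∃ s : F, (s = 1 ∨ s = -1) ∧ ∀ i j,
      ((C : M2) * (!![1, 1; 0, 1] : M2)) i j = s * ((!![1, 1; 0, 1] : M2) * (C : M2)) i j := by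
    rcases comm_cases h with h' | h'
    · refine ⟨1, Or.inl rfl, fun i j => ?_⟩
      rw [one_mul]
      exact congrFun (congrFun (congrArg Subtype.val h') i) j
    · refine ⟨-1, Or.inr rfl, fun i j => ?_⟩
      have := congrFun (congrFun (congrArg Subtype.val h') i) j
      rw [Matrix.SpecialLinearGroup.coe_neg, Matrix.neg_apply] at this
      rw [neg_one_mul]
      exact this
  have e00 := hC 0 0
  have e01 := hC 0 1
  have e10 := hC 1 0
  simp [Matrix.mul_apply, Fin.sum_univ_two] at e00 e01 e10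
  have hd := C.2
  rw [Matrix.det_fin_two] at hd
  rcases hs with rfl | rfl
  · have hc : (C : M2) 1 0 = 0 := by linear_combination -e00
    have ha : (C : M2) 1 1 = (C : M2) 0 0 := by linear_combination -e01
    rw [hc, ha] at hd
    rcases mul_self_eq_one_iff.1 (by linear_combination hd : (C : M2) 0 0 * (C : M2) 0 0 = 1)
      with h0 | h0
    · refine ⟨(C : M2) 0 1, (congrArg (pi F) (Subtype.ext ?_)).trans (uni_eq _).symm⟩
      ext i j
      fin_cases i <;> fin_cases j <;> simp [uniSL, h0, hc, ha]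
    · refine ⟨-(C : M2) 0 1, Eq.trans (pi_eq_iff.2 (Or.inr (Subtype.ext ?_))) (uni_eq _).symm⟩
      rw [Matrix.SpecialLinearGroup.coe_neg]
      ext i j
      fin_cases i <;> fin_cases j <;> simp [uniSL, h0, hc, ha]
  · have hc : (C : M2) 1 0 = 0 :=
      (mul_eq_zero.1 (by linear_combination e10 : (2 : F) * (C : M2) 1 0 = 0)).resolve_left h2
    have ha : (C : M2) 0 0 = 0 :=
      (mul_eq_zero.1 (by linear_combination e00 - hc : (2 : F) * (C : M2) 0 0 = 0)).resolve_left h2
    rw [hc, ha] at hd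
    simp at hd

theorem orderOf_uni (h2 : (2 : F) ≠ 0) (p : ℕ) [CharP F p] [hp : Fact p.Prime] :
    orderOf (uni F (Multiplicative.ofAdd 1)) = p := by
  rw [orderOf_injective _ (uni_injective h2)]
  exact orderOf_eq_prime (by rw [← ofAdd_nsmul, nsmul_one, CharP.cast_eq_zero, ofAdd_zero])
    fun h => one_ne_zero (α := F) (Multiplicative.ofAdd.injective h)

/-- If the torus normalizes every subgroup of prime order it could, the field is prime. -/
theorem card_prime_of_uni (h2 : (2 : F) ≠ 0)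
    (hU : ∀ n : PG, (∀ c : PG, Commute c (uni F (Multiplicative.ofAdd 1)) →
        Commute (n * c * n⁻¹) (uni F (Multiplicative.ofAdd 1))) →
      n * uni F (Multiplicative.ofAdd 1) * n⁻¹ ∈ Subgroup.zpowers (uni F (Multiplicative.ofAdd 1))) :
    (Fintype.card F).Prime := by
  obtain ⟨p, hchar⟩ := CharP.exists F
  obtain ⟨f, hp, hf⟩ := FiniteField.card F p
  haveI : Fact p.Prime := ⟨hp⟩
  have key : ∀ a : Fˣ, a ^ (2 * (p - 1)) = 1 := by
    intro a
    let D : SL(2, F) := ⟨!![(a : F), 0; 0, ((a⁻¹ : Fˣ) : F)], by simp [Matrix.det_fin_two]⟩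
    have hconj : ∀ b : F, pi F D * uni F (Multiplicative.ofAdd b) * (pi F D)⁻¹ =
        uni F (Multiplicative.ofAdd ((a : F) * b * a)) := fun b => by
      rw [mul_inv_eq_iff_eq_mul, uni_eq, uni_eq, ← map_mul, ← map_mul]
      refine congrArg (pi F) (Subtype.ext ?_)
      rw [Matrix.SpecialLinearGroup.coe_mul, Matrix.SpecialLinearGroup.coe_mul, coe_uniSL, coe_uniSL,
        show (D : M2) = !![(a : F), 0; 0, ((a⁻¹ : Fˣ) : F)] from rfl]
      ext i j
      fin_cases i <;> fin_cases j <;> simp [Matrix.mul_apply, Fin.sum_univ_two, mul_assoc,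
        mul_comm, mul_left_comm]
    have h := hU (pi F D) fun c hc => by
      obtain ⟨b, rfl⟩ := commute_uni h2 hc
      rw [hconj]
      exact (Commute.all _ _).map (uni F)
    obtain ⟨k, hk⟩ := Subgroup.mem_zpowers_iff.1 h
    rw [hconj, ← map_zpow, ← ofAdd_zsmul] at hk
    have hk' : (k : F) = (a : F) * a := by
      simpa using Multiplicative.ofAdd.injective (uni_injective h2 hk)
    have hkp : (k : F) ^ p = (k : F) := by
      rw [← frobenius_def, map_intCast]
    have hk0 : (k : F) ≠ 0 := by rw [hk']; exact mul_ne_zero a.ne_zero a.ne_zero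
    have hk1 : (k : F) ^ (p - 1) = 1 := by
      refine mul_left_cancel₀ hk0 ?_
      rw [← pow_succ', Nat.sub_add_cancel hp.one_le, hkp, mul_one]
    refine Units.ext ?_
    rw [Units.val_pow_eq_pow_val, pow_mul, pow_two, ← hk', hk1, Units.val_one]
  obtain ⟨g, hg⟩ := IsCyclic.exists_generator (α := Fˣ)
  have hd : Fintype.card F - 1 ∣ 2 * (p - 1) := by
    have := orderOf_dvd_of_pow_eq_one (key g)
    rwa [orderOf_eq_card_of_forall_mem_zpowers hg, Nat.card_units, Nat.card_eq_fintype_card] at this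
  have hle := Nat.le_of_dvd (by have := hp.two_le; omega) hd
  rw [hf] at hle ⊢
  have hf1 : (f : ℕ) = 1 := by
    by_contra hne
    have hpow : p ^ 2 ≤ p ^ (f : ℕ) := Nat.pow_le_pow_right hp.pos (by have := f.pos; omega)
    have hp3 : p ≠ 2 := fun h => h2 (by subst h; exact CharTwo.two_eq_zero)
    have h3 : 3 ≤ p := by have := hp.two_le; omega
    have : 3 * p ≤ p ^ 2 := by rw [pow_two]; exact Nat.mul_le_mul_right p h3
    omega
  rwa [hf1, pow_one]

/-- A matrix commuting with two anticommuting square roots of `-1` is scalar. -/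
theorem eq_scalar (h2 : (2 : F) ≠ 0) {I J : SL(2, F)} (hI : I * I = -1) (hJ : J * J = -1)
    (hJI : J * I = -(I * J)) {M : M2} (hMI : M * (I : M2) = (I : M2) * M)
    (hMJ : M * (J : M2) = (J : M2) * M) : M = M 0 0 • (1 : M2) := by
  obtain ⟨i1, i2⟩ := shape hI
  obtain ⟨j1, j2⟩ := shape hJ
  have e := congrFun (congrFun (congrArg Subtype.val hJI) 0) 0
  rw [Matrix.SpecialLinearGroup.coe_neg, Matrix.neg_apply] at e
  simp [Matrix.SpecialLinearGroup.coe_mul, Matrix.mul_apply, Fin.sum_univ_two] at e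
  have p00 := congrFun (congrFun hMI 0) 0
  have p01 := congrFun (congrFun hMI 0) 1
  have p10 := congrFun (congrFun hMI 1) 0
  have q00 := congrFun (congrFun hMJ 0) 0
  have q01 := congrFun (congrFun hMJ 0) 1
  have q10 := congrFun (congrFun hMJ 1) 0
  simp [Matrix.mul_apply, Fin.sum_univ_two, i1, j1] at p00 p01 p10 q00 q01 q10
  generalize (I : M2) 0 0 = a, (I : M2) 0 1 = b, (I : M2) 1 0 = c at *
  generalize (J : M2) 0 0 = x, (J : M2) 0 1 = y, (J : M2) 1 0 = z at *
  generalize hm : M 0 0 = m at *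
  generalize hn : M 0 1 = n at *
  generalize ho : M 1 0 = o at *
  generalize hr : M 1 1 = r at *
  obtain ⟨S, hS⟩ : ∃ S, S = (m - r) * a + 2 * n * c := ⟨_, rfl⟩
  obtain ⟨T, hT⟩ : ∃ T, T = (m - r) * x + 2 * n * z := ⟨_, rfl⟩
  have hd : m - r = -(S * a) := by
    rw [hS]; linear_combination (m - r) * i2 - c * p01
  have hn2 : 2 * n = -(S * b) := by
    rw [hS]; linear_combination (2 * n) * i2 + a * p01
  have ho2 : 2 * o = -(S * c) := by
    rw [hS]; linear_combination (2 * o) * i2 - a * p10 + (2 * c) * p00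
  have hT0 : T = 0 := by
    refine (mul_eq_zero.1 (?_ : (2 : F) * T = 0)).resolve_left h2
    rw [hT]
    linear_combination (2 * x) * hd + z * hn2 + y * ho2 + 2 * q00 - S * e
  have hd' : m - r = 0 := by
    have : m - r = -(T * x) := by rw [hT]; linear_combination (m - r) * j2 - z * q01
    rw [this, hT0]; ring
  have hn' : n = 0 := by
    refine (mul_eq_zero.1 (?_ : (2 : F) * n = 0)).resolve_left h2
    have : 2 * n = -(T * y) := by rw [hT]; linear_combination (2 * n) * j2 + x * q01
    rw [this, hT0]; ring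
  have ho' : o = 0 := by
    refine (mul_eq_zero.1 (?_ : (2 : F) * o = 0)).resolve_left h2
    have : 2 * o = -(T * z) := by
      rw [hT]; linear_combination (2 * o) * j2 - x * q10 + (2 * z) * q00
    rw [this, hT0]; ring
  ext i j
  fin_cases i <;> fin_cases j <;> simp [hm, hn, ho, hr, hn', ho']
  linear_combination -hd'

theorem subsingleton_ringEquiv (hp : (Fintype.card F).Prime) (σ : F ≃+* F) : σ = 1 := by
  haveI : Fact (Fintype.card F).Prime := ⟨hp⟩
  haveI : CharP F (Fintype.card F) := charP_of_card_eq_prime rfl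
  refine RingEquiv.ext fun x => ?_
  obtain ⟨k, rfl⟩ := (ZMod.ringEquivOfPrime F hp rfl).surjective x
  obtain ⟨n, rfl⟩ := ZMod.natCast_zmod_surjective k
  simp

/-- An automorphism fixing a four-group pointwise is inner when the field is prime. -/
theorem exists_eq_conj (hp : (Fintype.card F).Prime) (h2 : (2 : F) ≠ 0) {a b : PG}
    (ha : orderOf a = 2) (hb : orderOf b = 2) (hne : a ≠ b) (hc : Commute a b) (β : MulAut PG)
    (hβa : β a = a) (hβb : β b = b) : ∃ n : PG, β = MulAut.conj n := by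
  obtain ⟨I, J, rfl, rfl, hI, hJ, hJI⟩ := exists_lifts h2 ha hb hne hc
  obtain ⟨g, σ, rfl⟩ := AutPSL.Out.exists_decomp_two β
  rw [subsingleton_ringEquiv hp σ, map_one, mul_one] at hβa hβb ⊢
  have hg : ∀ (h : GL (Fin 2) F) (s : SL(2, F)),
      (gAut h : MulAut PG) (pi F s) = pi F (conjSL h s) := fun h s => rfl
  rw [hg, pi_eq_iff] at hβa hβb
  -- conjugation by `I`, `J` changes the signs
  have conjneg : ∀ X Y : SL(2, F), X * Y = -(Y * X) → X * Y * X⁻¹ = -Y := fun X Y h => by
    rw [h, neg_mul, mul_inv_cancel_right]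
  have hIJ : I * J = -(J * I) := by rw [hJI, neg_neg]
  obtain ⟨k, hkI, hkJ⟩ : ∃ k : SL(2, F), conjSL g (k * I * k⁻¹) = I ∧ conjSL g (k * J * k⁻¹) = J := by
    have hneg : ∀ Y : SL(2, F), conjSL g (-Y) = -conjSL g Y := fun Y => Subtype.ext (by
      rw [Matrix.SpecialLinearGroup.coe_neg, AutPSL.Basic.conjSL_coe, AutPSL.Basic.conjSL_coe,
        Matrix.SpecialLinearGroup.coe_neg, mul_neg, neg_mul])
    rcases hβa with hA | hA <;> rcases hβb with hB | hB
    · exact ⟨1, by simpa using hA, by simpa using hB⟩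
    · exact ⟨I, by rw [mul_inv_cancel_right, hA], by rw [conjneg _ _ hIJ, hneg, hB, neg_neg]⟩
    · exact ⟨J, by rw [conjneg _ _ hJI, hneg, hA, neg_neg], by rw [mul_inv_cancel_right, hB]⟩
    · have hc2 : ∀ X Y : SL(2, F), X * Y = -(Y * X) →
          (I * J) * Y * (I * J)⁻¹ = I * (J * Y * J⁻¹) * I⁻¹ := fun X Y _ => by group
      refine ⟨I * J, ?_, ?_⟩
      · rw [hc2 J I hJI, conjneg _ _ hJI, mul_neg, neg_mul, mul_inv_cancel_right, hneg, hA, neg_neg]
      · rw [hc2 I J hIJ, mul_inv_cancel_right, conjneg _ _ hIJ, hneg, hB, neg_neg]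
  set g' : GL (Fin 2) F := g * Matrix.SpecialLinearGroup.toGL k
  have hk : ∀ s : SL(2, F), conjSL (Matrix.SpecialLinearGroup.toGL k) s = k * s * k⁻¹ := fun s =>
    Subtype.ext rfl
  have hcomm : ∀ s : SL(2, F), conjSL g' s = s → (g' : M2) * (s : M2) = (s : M2) * (g' : M2) :=
    fun s hs => by
      have h := congrArg Subtype.val hs
      rw [AutPSL.Basic.conjSL_coe] at h
      have h' := congrArg (· * (g' : M2)) h
      simp only [mul_assoc, Units.inv_mul, mul_one] at h'
      exact h'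
  have hsc := eq_scalar h2 hI hJ hJI
    (hcomm I (by rw [map_mul, MulAut.mul_apply, hk, hkI]))
    (hcomm J (by rw [map_mul, MulAut.mul_apply, hk, hkJ]))
  have hone : conjSL g' = 1 := MulEquiv.ext fun s => Subtype.ext (by
    rw [AutPSL.Basic.conjSL_coe, hsc, Matrix.smul_mul, Matrix.one_mul, ← Matrix.mul_one (s : M2),
      ← Matrix.mul_smul, ← hsc, mul_assoc, Units.mul_inv, MulAut.one_apply, Matrix.mul_one])
  refine ⟨pi F k⁻¹, MulEquiv.ext fun x => ?_⟩
  obtain ⟨s, rfl⟩ := pi_surjective x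
  rw [hg, MulAut.conj_apply, ← map_inv, ← map_mul, ← map_mul]
  refine congrArg (pi F) ?_
  have h := DFunLike.congr_fun hone (k⁻¹ * s * k)
  simp only [g'] at h
  rw [map_mul (conjSL (n := 2) (F := F)), MulAut.mul_apply, hk, MulAut.one_apply,
    show k * (k⁻¹ * s * k) * k⁻¹ = s by group] at h
  rw [inv_inv, h]

end Cfsg.Agent.MaxNormalizer.Linear
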