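import Cfsg.Agent.Lib.GW.CountTorus
import Cfsg.Agent.Lib.GW.CountTorusPSL

/-!
# The two dihedral subgroups of `PSL₂(q)`, `q` odd
-/

set_option autoImplicit false
set_option linter.unusedSectionVars false
set_option linter.style.haveILetI false

namespace Cfsg.Agent.MaxNormalizer.LinearTorus

open Subgroup MulAction Cfsg.Agent.Forms.SolubilizerPSL2 Cfsg.Agent.GW.Count

universe u

theorem exists_facts {E : Type u} [Group E] [Finite E] {F : Type} [Field F] [Fintype F]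
    (hodd : Odd (Fintype.card F)) (h3 : 3 < Fintype.card F) (e : E ≃* Matrix.ProjectiveSpecialLinearGroup (Fin 2) F) {t : E}
    (ht : orderOf t = 2) :
    ∃ (m n : ℕ) (a s : E),
      ((Fintype.card F + 1 = 4 * m ∧ Fintype.card F - 1 = 2 * n) ∨
        (Fintype.card F - 1 = 4 * m ∧ Fintype.card F + 1 = 2 * n)) ∧
      orderOf a = 2 * m ∧ t ∈ zpowers a ∧ orderOf s = 2 ∧ s * a * s⁻¹ = a⁻¹ ∧ s ∉ zpowers a ∧
      (∀ c : E, Commute c t → c ∈ zpowers a ∨ c * s ∈ zpowers a) ∧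
      ∃ y u : E, orderOf y = n ∧ orderOf u = 2 ∧ u * y * u⁻¹ = y⁻¹ := by
  obtain ⟨p₀, hp₀, X, hX, hT⟩ := exists_torus hodd e ht
  haveI := hp₀
  letI := hX
  set q := Fintype.card F with hq
  have hD := hT.data
  have hq2 := hD.two_le
  obtain ⟨a₀, b₀, hab, ha, hb⟩ := hT.exists_pair hT.t_ne_one (by rw [hT.invol]; exact hT.odd_char.symm)
  obtain ⟨s, hsa, hsb⟩ := exists_swap hD hT.t_ne_one hab ha hb
  haveI := isCyclic_ptw hD.two hab
  obtain ⟨g, hg⟩ := IsCyclic.exists_generator (α := ptw (G := E) a₀ b₀)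
  have hcardA : orderOf (g : E) = Nat.card (ptw (G := E) a₀ b₀) := by
    rw [orderOf_coe]; exact orderOf_eq_card_of_forall_mem_zpowers hg
  have hmemA : ∀ x ∈ ptw (G := E) a₀ b₀, x ∈ zpowers (g : E) := fun x hx => by
    obtain ⟨k, hk⟩ := mem_zpowers_iff.1 (hg ⟨x, hx⟩)
    exact mem_zpowers_iff.2 ⟨k, congrArg Subtype.val hk⟩
  have hso : orderOf s = 2 := orderOf_eq_prime (by rw [pow_two]; exact swap_sq hD.two hab hsa hsb)
    fun e' => hab (by rw [e', one_smul] at hsa; exact hsa)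
  have htA : t ∈ zpowers (g : E) := hmemA t (mem_ptw.2 ⟨ha, hb⟩)
  have hts : t ∈ ptw (G := E) a₀ b₀ := mem_ptw.2 ⟨ha, hb⟩
  have hev : 2 ∣ Nat.card (ptw (G := E) a₀ b₀) := ht ▸ Subgroup.orderOf_dvd_natCard _ hts
  obtain ⟨m, hm⟩ := hev
  have hsA : s ∉ zpowers (g : E) := fun h => by
    have h' : s • a₀ = a₀ := (mem_ptw.1 ((zpowers_le.2 g.2) h)).1
    exact hab (h'.symm.trans hsa)
  have hcent : ∀ c : E, Commute c t → c ∈ zpowers (g : E) ∨ c * s ∈ zpowers (g : E) := by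
    intro c hc
    have hc' : c ∈ centralizer ({t} : Set E) := mem_centralizer_singleton_iff.2 hc.eq
    rw [hT.centralizer_eq hab ha hb] at hc'
    rcases hc' with ⟨h1, h2⟩ | ⟨h1, h2⟩
    · exact Or.inl (hmemA c (mem_ptw.2 ⟨h1, h2⟩))
    · exact Or.inr (hmemA _ (mem_ptw.2 ⟨by rw [mul_smul, hsa, h2], by rw [mul_smul, hsb, h1]⟩))
  have hinv := swap_inverts hD.two hab hsa hsb (mem_ptw.1 g.2).1 (mem_ptw.1 g.2).2
  -- a pair of the other type
  have hother : ∀ (f : E) (c d : X), f ≠ 1 → c ≠ d → f • c = c → f • d = d →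
      ∃ y u : E, orderOf y = Nat.card (ptw (G := E) c d) ∧ orderOf u = 2 ∧ u * y * u⁻¹ = y⁻¹ := by
    intro f c d hf hcd hfc hfd
    obtain ⟨u, huc, hud⟩ := exists_swap hD hf hcd hfc hfd
    haveI := isCyclic_ptw hD.two hcd
    obtain ⟨y, hy⟩ := IsCyclic.exists_generator (α := ptw (G := E) c d)
    exact ⟨y, u, by rw [orderOf_coe]; exact orderOf_eq_card_of_forall_mem_zpowers hy,
      orderOf_eq_prime (by rw [pow_two]; exact swap_sq hD.two hcd huc hud)
        (fun e' => hcd (by rw [e', one_smul] at huc; exact huc)),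
      swap_inverts hD.two hcd huc hud (mem_ptw.1 y.2).1 (mem_ptw.1 y.2).2⟩
  have hq1 : 2 < q := by rcases hodd with ⟨k, hk⟩; omega
  by_cases hr : IsRat p₀ E a₀
  · have hc := natCard_ptw_rat hD hr ((rat_iff hD hT.t_ne_one hab ha hb).1 hr) hab
    obtain ⟨f, hf⟩ : (ell p₀ E X).Nonempty := by
      refine Set.nonempty_of_ncard_ne_zero fun h0 => ?_
      have h1 := two_mul_ncard_ell hD
      have h2 := hD.card
      rw [h0, mul_zero, zero_add] at h1
      rw [← h1, ← mul_assoc q, mul_comm 2 _] at h2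
      have := Nat.eq_of_mul_eq_mul_left (Nat.mul_pos (by omega) (by omega : 0 < q - 1)) h2
      omega
    have hfp : orderOf f ≠ p₀ := fun e' => by
      obtain ⟨z, hz⟩ := hD.two.exists_fixed hf.1
      exact hf.2 z ⟨f, e', hz⟩ hz
    obtain ⟨c, d, hcd, hfc, hfd⟩ := hT.exists_pair hf.1 hfp
    have hc' := natCard_ptw_irrat hD hf.1 hcd hfc hfd (fun h => hf.2 c h hfc)
    obtain ⟨y, u, hy, hu⟩ := hother f c d hf.1 hcd hfc hfd
    exact ⟨m, Nat.card (ptw (G := E) c d), g, s, Or.inr ⟨by omega, by omega⟩, hcardA.trans hm, htA,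
      hso, hinv, hsA, hcent, y, u, hy, hu⟩
  · have hc := natCard_ptw_irrat hD hT.t_ne_one hab ha hb hr
    obtain ⟨c, d, hcR, hdR, hcd⟩ : ∃ c d : X, IsRat p₀ E c ∧ IsRat p₀ E d ∧ c ≠ d := by
      have h := ncard_rat hD
      obtain ⟨c, d, h1, h2, h3⟩ := (Set.one_lt_ncard_iff (finite_rat hD)).1 (by rw [h]; omega)
      exact ⟨c, d, h1, h2, h3⟩
    have hc' := natCard_ptw_rat hD hcR hdR hcd
    haveI : Nontrivial (ptw (G := E) c d) := by
      rw [← Finite.one_lt_card_iff_nontrivial]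
      by_contra hle
      obtain ⟨k, hk⟩ : ∃ k, Nat.card (ptw (G := E) c d) = k := ⟨_, rfl⟩
      have hpos : 0 < Nat.card (ptw (G := E) c d) := Nat.card_pos
      rw [hk] at hle hpos hc'
      omega
    obtain ⟨⟨f, hf⟩, hf1⟩ := exists_ne (1 : ptw (G := E) c d)
    obtain ⟨y, u, hy, hu⟩ := hother f c d (fun e' => hf1 (Subtype.ext e')) hcd (mem_ptw.1 hf).1
      (mem_ptw.1 hf).2
    exact ⟨m, Nat.card (ptw (G := E) c d), g, s, Or.inl ⟨by omega, by omega⟩, hcardA.trans hm, htA,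
      hso, hinv, hsA, hcent, y, u, hy, hu⟩

end Cfsg.Agent.MaxNormalizer.LinearTorus
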