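import Cfsg.Agent.Lib.MaxNormalizer.Models
import Cfsg.Agent.Lib.MaxNormalizer.Linear
import Cfsg.Agent.Lib.MaxNormalizer.LinearTorus
import Cfsg.Agent.S2542

/-!
# The only group with trivial radical and maximal normalizers is `PSL₂(13)`
-/

set_option autoImplicit false
set_option linter.unusedSectionVars false
set_option linter.style.haveILetI false

namespace Cfsg.Agent.MaxNormalizer.Identify

open Subgroup Cfsg.Agent.MaxNormalizer.Basic Cfsg.Agent.MaxNormalizer.Local
open Cfsg.Agent.Forms.KleinPSL (kSub mem_kSub natCard_kSub)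

universe u

local notation "PSL2" F => Matrix.ProjectiveSpecialLinearGroup (Fin 2) F

/-- The classification of groups with 2-nilpotent involution centralizers. -/
def ListHyp : Prop :=
  ∀ (G : Type u) [Group G] [Finite G] [IsSimpleGroup G], ¬ IsMulCommutative G →
    (∀ t : G, orderOf t = 2 → Cfsg.HasNormalPComplement 2 ↥(centralizer ({t} : Set G))) →
    (∃ (F : Type) (_ : Field F) (_ : Fintype F), 3 < Fintype.card F ∧ Nonempty (G ≃* PSL2 F)) ∨
      Cfsg.Lie.IsoSuzuki G ∨ Nonempty (G ≃* ↥(alternatingGroup (Fin 7))) ∨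
      (∃ (F : Type) (_ : Field F) (_ : Fintype F), Fintype.card F = 4 ∧
        Nonempty (G ≃* Matrix.ProjectiveSpecialLinearGroup (Fin 3) F))

theorem conj_of_mul_mem {L : Type*} [Group L] {a s : L} (hss : s * s = 1)
    (hinv : s * a * s⁻¹ = a⁻¹) : a * s * a⁻¹ * s = a * a := by
  have hsi : s⁻¹ = s := inv_eq_of_mul_eq_one_right hss
  calc a * s * a⁻¹ * s = a * (s * a * s⁻¹)⁻¹ := by
        rw [_root_.mul_inv_rev, _root_.mul_inv_rev, inv_inv, hsi]; group
    _ = a * a := by rw [hinv, inv_inv]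

theorem orderOf_sq_dvd {L : Type*} [Group L] [Finite L] {a x : L} (h : a * a ∈ zpowers x) :
    orderOf (a * a) ∣ orderOf x := by
  rw [← Nat.card_zpowers x]
  exact Subgroup.orderOf_dvd_natCard _ h

/-- A prime divisor of the order of a cyclic group inverted by an involution is all of it. -/
theorem eq_of_prime_dvd {L : Type*} [Group L] [Finite L] (h : Loc L) {a s : L} (hs : orderOf s = 2)
    (hinv : s * a * s⁻¹ = a⁻¹) {r : ℕ} (hr : r.Prime) (hr2 : r ≠ 2) (hd : r ∣ orderOf a) :
    orderOf (a * a) ∣ r := by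
  set x := a ^ (orderOf a / r)
  have hx : orderOf x = r := orderOf_pow_orderOf_div (orderOf_pos a).ne' hd
  have hmem : a * s * a⁻¹ * s ∈ zpowers x := by
    refine h.dihedral x s a (hx.symm ▸ hr) (hx.symm ▸ hr2) hs ?_ ?_
    · rw [← conj_pow, hinv, inv_pow]
    · rw [← conj_pow, mul_inv_cancel_right]
      exact mem_zpowers x
  rw [conj_of_mul_mem (by rw [← pow_two, ← hs, pow_orderOf_eq_one]) hinv] at hmem
  exact hx ▸ orderOf_sq_dvd hmem

theorem orderOf_mul_self {L : Type*} [Group L] [Finite L] {a : L} {k : ℕ} (ha : orderOf a = 2 * k) :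
    orderOf (a * a) = k := by
  rw [← pow_two, orderOf_pow, ha, Nat.gcd_eq_right (dvd_mul_right 2 k), Nat.mul_div_cancel_left _ two_pos]

theorem orderOf_mul_self_of_odd {L : Type*} [Group L] [Finite L] {a : L} {k : ℕ} (ha : orderOf a = k)
    (hk : Odd k) : orderOf (a * a) = k := by
  rw [← pow_two, Nat.Coprime.orderOf_pow (by rw [ha]; exact Nat.coprime_two_right.2 hk), ha]

/-- The centralizer of a four-group when the torus has order twice an odd number. -/
theorem four_cases {L : Type*} [Group L] [Finite L] {t a s v : L} {m : ℕ} (hm : Odd m)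
    (ha : orderOf a = 2 * m) (ht : orderOf t = 2) (hta : t ∈ zpowers a) (hs : orderOf s = 2)
    (hinv : s * a * s⁻¹ = a⁻¹)
    (hcent : ∀ c : L, Commute c t → c ∈ zpowers a ∨ c * s ∈ zpowers a)
    (hv : orderOf v = 2) (hvt : Commute v t) (hne : v ≠ t) {c : L} (hc : Commute c t) :
    c * v * c⁻¹ ≠ t * v ∧ (c * v * c⁻¹ = v → c = 1 ∨ c = t ∨ c = v ∨ c = t * v) := by
  have hvv : v * v = 1 := by rw [← pow_two, ← hv, pow_orderOf_eq_one]
  have hvi : v⁻¹ = v := inv_eq_of_mul_eq_one_right hvv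
  have hsi : s⁻¹ = s := inv_eq_of_mul_eq_one_right (by rw [← pow_two, ← hs, pow_orderOf_eq_one])
  -- involutions and squares in the torus
  have hsq : ∀ d ∈ zpowers a, d * d = 1 → d = 1 ∨ d = t := fun d hd h =>
    eq_one_or_of_mem_zpowers ht (mem_zpowers_of_orderOf_dvd hta hd
      (ht.symm ▸ orderOf_dvd_of_pow_eq_one (by rwa [pow_two])))
  have hnsq : ∀ d ∈ zpowers a, d * d ≠ t := fun d hd h => by
    have h4 : d ^ 4 = 1 := by
      rw [show (4 : ℕ) = 2 * 2 from rfl, pow_mul, pow_two d, h, ← ht, pow_orderOf_eq_one]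
    have hd2 : d ^ (2 * m) = 1 := by
      obtain ⟨k, rfl⟩ := mem_zpowers_iff.1 hd
      rw [← zpow_natCast, ← _root_.zpow_mul, mul_comm, _root_.zpow_mul, zpow_natCast, ← ha,
        pow_orderOf_eq_one, one_zpow]
    have hg := pow_gcd_eq_one.2 ⟨h4, hd2⟩
    have hgcd : Nat.gcd 4 (2 * m) = 2 := by
      rw [show 4 = 2 * 2 from rfl, Nat.gcd_mul_left, Nat.coprime_iff_gcd_eq_one.1
        (Nat.coprime_two_left.2 hm)]
    rw [hgcd, pow_two, h] at hg
    rw [hg, orderOf_one] at ht
    omega
  have hflip : ∀ d ∈ zpowers a, s * d * s⁻¹ = d⁻¹ := fun d hd => by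
    obtain ⟨k, rfl⟩ := mem_zpowers_iff.1 hd
    rw [← conj_zpow, hinv, inv_zpow]
  have hvs : v * s ∈ zpowers a := by
    refine (hcent v hvt).resolve_left fun hva => ?_
    rcases hsq v hva hvv with e | e
    · rw [e, orderOf_one] at hv; omega
    · exact hne e
  have hvflip : ∀ d ∈ zpowers a, v * d * v⁻¹ = d⁻¹ := fun d hd => by
    have e : v = (v * s) * s⁻¹ := by group
    calc v * d * v⁻¹ = (v * s) * (s⁻¹ * d * s⁻¹⁻¹) * (v * s)⁻¹ := by group
      _ = (v * s) * (s * d * s⁻¹) * (v * s)⁻¹ := by rw [hsi, hsi]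
      _ = (v * s) * d⁻¹ * (v * s)⁻¹ := by rw [hflip d hd]
      _ = d⁻¹ := by
        obtain ⟨i, hi⟩ := mem_zpowers_iff.1 hvs
        obtain ⟨j, hj⟩ := mem_zpowers_iff.1 (inv_mem hd)
        rw [← hi, ← hj, ← zpow_add, ← zpow_neg, ← zpow_add]
        congr 1
        ring
  -- write `c` as a torus element, possibly times `v`
  obtain ⟨d, hd, hdc⟩ : ∃ d ∈ zpowers a, c = d ∨ c = d * v := by
    rcases hcent c hc with h | h
    · exact ⟨c, h, Or.inl rfl⟩
    · refine ⟨c * v, ?_, Or.inr (by rw [mul_assoc, hvv, mul_one])⟩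
      have e : c * v = c * s * (v * s)⁻¹ * (v * v) := by group
      rw [e, hvv, mul_one]
      exact mul_mem h (inv_mem hvs)
  have hconj : c * v * c⁻¹ = d * d * v := by
    have e : v * d⁻¹ = d * v := by
      have := hvflip d⁻¹ (inv_mem hd)
      rw [inv_inv, mul_inv_eq_iff_eq_mul] at this
      exact this
    have h1 : d * v * d⁻¹ = d * d * v := by rw [mul_assoc, e, ← mul_assoc]
    rcases hdc with rfl | rfl
    · exact h1
    · rw [← h1]; group
  refine ⟨fun h => hnsq d hd (mul_right_cancel (hconj.symm.trans h)), fun h => ?_⟩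
  have hd1 : d * d = 1 := by
    rw [hconj] at h
    exact mul_eq_right.1 h
  rcases hsq d hd hd1 with rfl | rfl <;> rcases hdc with rfl | rfl <;> simp

/-- The arithmetic conditions on `q`. -/
theorem card_cases {L : Type u} [Group L] [Finite L] {F : Type} [Field F] [Fintype F]
    (h : Loc L) (h3 : 3 < Fintype.card F) (hodd : Odd (Fintype.card F))
    (hp : (Fintype.card F).Prime) (e : L ≃* PSL2 F) {t : L} (ht : orderOf t = 2) :
    ∃ (m : ℕ) (a s : L), orderOf a = 2 * m ∧ t ∈ zpowers a ∧ orderOf s = 2 ∧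
      s * a * s⁻¹ = a⁻¹ ∧ s ∉ zpowers a ∧
      (∀ c : L, Commute c t → c ∈ zpowers a ∨ c * s ∈ zpowers a) ∧
      ((Fintype.card F = 7 ∧ m = 2) ∨ ((Fintype.card F = 11 ∨ Fintype.card F = 13) ∧ m = 3)) := by
  obtain ⟨m, n, a, s, hq, ha, hta, hs, hinv, hsA, hcent, y, u, hy, hu, hyinv⟩ :=
    LinearTorus.exists_facts hodd h3 e ht
  have hm : 0 < m := by
    have := orderOf_pos a
    omega
  -- `q = 5` has an abelian centralizer
  have hm1 : m ≠ 1 := fun h1 => by
    subst h1
    have hat : a = t := by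
      rcases eq_one_or_of_mem_zpowers ht (mem_zpowers_of_orderOf_dvd hta (mem_zpowers a)
        (by rw [ha, ht])) with e1 | e1
      · rw [e1, orderOf_one] at ha; omega
      · exact e1
    subst hat
    have hss : s * s = 1 := by rw [← pow_two, ← hs, pow_orderOf_eq_one]
    have hst : Commute s a := by
      have := hinv
      rw [inv_eq_of_mul_eq_one_right (show a * a = 1 by rw [← pow_two, ← ht, pow_orderOf_eq_one]),
        mul_inv_eq_iff_eq_mul] at this
      exact this
    have hne : a ≠ s := fun e1 => hsA (e1 ▸ mem_zpowers a)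
    have h2 : (2 : F) ≠ 0 := Classical.SylowSL2.two_ne_zero_of_odd hodd
    obtain ⟨k, hk, -⟩ := Linear.exists_cycle h2 (a := e a) (b := e s)
      (by rw [MulEquiv.orderOf_eq, ha]) (by rw [MulEquiv.orderOf_eq, hs]) (e.injective.ne hne)
      (hst.symm.map e)
    obtain ⟨k, rfl⟩ := e.surjective k
    rw [← map_inv, ← map_mul, ← map_mul] at hk
    have hk' := e.injective hk
    refine Models.false_of_nested h ha (n := k) (by rw [hk']; exact hne.symm) fun c hc => ?_
    rw [hk']
    rcases hcent c hc with hca | hca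
    · rcases eq_one_or_of_mem_zpowers ha hca with rfl | rfl
      · exact Commute.one_left s
      · exact hst.symm
    · have hc' : c = c * s * s := by rw [mul_assoc, hss, mul_one]
      rw [hc']
      rcases eq_one_or_of_mem_zpowers ha hca with e1 | e1 <;> rw [e1]
      · rw [one_mul]
      · exact Commute.mul_left hst.symm (Commute.refl s)
  have hmr : ∀ r : ℕ, r.Prime → r ≠ 2 → r ∣ m → m = r := fun r hr hr2 hrm => by
    have hd := eq_of_prime_dvd h hs hinv hr hr2 (ha ▸ dvd_mul_of_dvd_right hrm 2)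
    rw [orderOf_mul_self ha] at hd
    exact Nat.dvd_antisymm hd hrm
  have hnodd : Odd n := Nat.odd_iff.2 (by omega)
  have hnr : ∀ r : ℕ, r.Prime → r ∣ n → n = r := fun r hr hrn => by
    have hr2 : r ≠ 2 := fun e1 => by
      subst e1
      exact (Nat.not_even_iff_odd.2 hnodd) (even_iff_two_dvd.2 hrn)
    have hd := eq_of_prime_dvd h hu hyinv hr hr2 (hy ▸ hrn)
    rw [orderOf_mul_self_of_odd hy hnodd] at hd
    exact Nat.dvd_antisymm hd hrn
  have h3' : ¬ 3 ∣ Fintype.card F := fun hd => by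
    have := (Nat.prime_dvd_prime_iff_eq Nat.prime_three hp).1 hd
    omega
  have h3mn : 3 ∣ m ∨ 3 ∣ n := by
    have : m % 3 = 0 ∨ m % 3 = 1 ∨ m % 3 = 2 := by omega
    rcases this with h1 | h1 | h1 <;> omega
  refine ⟨m, a, s, ha, hta, hs, hinv, hsA, hcent, ?_⟩
  rcases h3mn with hd | hd
  · have := hmr 3 Nat.prime_three (by omega) hd
    omega
  · have := hnr 3 Nat.prime_three hd
    omega

theorem false_of_even {F : Type} [Field F] [Fintype F] (h3 : 3 < Fintype.card F)
    (hev : ¬ Odd (Fintype.card F)) (h : Loc (PSL2 F)) : False := by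
  refine Models.psl_two_even ?_ h3 h
  have hring : ringChar F = 2 := FiniteField.even_card_iff_char_two.2
    (Nat.mod_two_ne_one.1 fun h1 => hev (Nat.odd_iff.2 h1))
  haveI : CharP F 2 := hring ▸ ringChar.charP F
  exact CharTwo.two_eq_zero

theorem prime_card {F : Type} [Field F] [Fintype F] (hodd : Odd (Fintype.card F))
    (h : Loc (PSL2 F)) : (Fintype.card F).Prime := by
  have h2 : (2 : F) ≠ 0 := Classical.SylowSL2.two_ne_zero_of_odd hodd
  obtain ⟨p, hp⟩ := CharP.exists F
  obtain ⟨f, hpp, -⟩ := FiniteField.card F p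
  haveI : Fact p.Prime := ⟨hpp⟩
  exact Linear.card_prime_of_uni h2 fun n hn =>
    h.uni _ (by rw [Linear.orderOf_uni h2 p]; exact hpp) n hn

variable {X : Type u} [Group X] [Finite X] (hX : Hyp X) (hR : TrivRad X)
  {T : Subgroup X} [hTn : T.Normal] (hCT : centralizer (T : Set X) = ⊥)
  (hsimple : IsSimpleGroup T)
  {F : Type} [Field F] [Fintype F] (e : T ≃* PSL2 F)

include hCT in
theorem mem_of_fix (hp : (Fintype.card F).Prime) (h2 : (2 : F) ≠ 0) {u v : T} (hu : orderOf u = 2)
    (hv : orderOf v = 2) (hne : u ≠ v) (hc : Commute u v) (e : T ≃* PSL2 F) {g : X}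
    (hgu : g * u * g⁻¹ = (u : X)) (hgv : g * v * g⁻¹ = (v : X)) : g ∈ T := by
  set β : MulAut (PSL2 F) := (e.symm.trans (MulAut.conjNormal g)).trans e
  have hfix : ∀ w : T, g * w * g⁻¹ = (w : X) → β (e w) = e w := fun w hw => by
    have : MulAut.conjNormal g w = w := Subtype.ext ((MulAut.conjNormal_apply g w).trans hw)
    simp [β, this]
  obtain ⟨n, hn⟩ := Linear.exists_eq_conj hp h2 (a := e u) (b := e v)
    (by rw [MulEquiv.orderOf_eq, hu]) (by rw [MulEquiv.orderOf_eq, hv]) (e.injective.ne hne)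
    (hc.map e) β (hfix u hgu) (hfix v hgv)
  obtain ⟨n, rfl⟩ := e.surjective n
  have hz : (n : X)⁻¹ * g ∈ centralizer (T : Set X) := fun w hw => by
    have h1 : e (MulAut.conjNormal g ⟨w, hw⟩) = e (n * ⟨w, hw⟩ * n⁻¹) := by
      have := DFunLike.congr_fun hn (e ⟨w, hw⟩)
      simpa [β] using this
    have h1' : g * w * g⁻¹ = (n : X) * w * (n : X)⁻¹ := by
      simpa using congrArg Subtype.val (e.injective h1)
    calc w * ((n : X)⁻¹ * g) = (n : X)⁻¹ * ((n : X) * w * (n : X)⁻¹) * g := by group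
      _ = (n : X)⁻¹ * g * w := by rw [← h1']; group
  rw [hCT, mem_bot, inv_mul_eq_one] at hz
  rw [← hz]
  exact n.2

include hX hR hCT in
theorem centralizer_le (hp : (Fintype.card F).Prime) (h2 : (2 : F) ≠ 0) {t a s : T}
    (ha : orderOf a = 6) (ht : orderOf t = 2) (hta : t ∈ zpowers a) (hs : orderOf s = 2)
    (hinv : s * a * s⁻¹ = a⁻¹) (hsA : s ∉ zpowers a) (e : T ≃* PSL2 F) :
    centralizer ({(t : X)} : Set X) ≤ T := by
  intro g hg
  haveI : Fact (Nat.Prime 3) := ⟨Nat.prime_three⟩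
  have hgt : Commute g (t : X) := mem_centralizer_singleton_iff.1 hg
  set x : T := a * a with hxdef
  have hx : orderOf (x : X) = 3 := by rw [orderOf_coe, hxdef, orderOf_mul_self (k := 3) ha]
  obtain ⟨k, hk⟩ := mem_zpowers_iff.1 hta
  have hat : Commute a t := hk ▸ Commute.self_zpow a k
  have hxt : Commute (x : X) t := (hat.mul_left hat).map T.subtype
  have hts : Commute t s := by
    have h1 : s * t * s⁻¹ = t := by
      rw [← hk, ← conj_zpow, hinv, inv_zpow, hk,
        inv_eq_of_mul_eq_one_right (show t * t = 1 by rw [← pow_two, ← ht, pow_orderOf_eq_one])]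
    exact (mul_inv_eq_iff_eq_mul.1 h1).symm
  have hgx : g * x * g⁻¹ ∈ zpowers (x : X) :=
    conj_mem_zpowers hX hR ((orderOf_coe t).trans ht) hgt _ _ hx (by decide) hxt
  have hsx : (s : X) * x * (s : X)⁻¹ = (x : X)⁻¹ := by
    have h1 : s * x * s⁻¹ = x⁻¹ := by rw [hxdef, ← conj_mul, hinv, _root_.mul_inv_rev]
    simpa using congrArg Subtype.val h1
  obtain ⟨i, hi⟩ := mem_zpowers_iff.1
    (conj_mul_mem hX hR (by rw [hx]; exact Nat.prime_three) (by rw [hx]; omega)
      ((orderOf_coe s).trans hs) hsx hgx)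
  have hss : (s : X) * s = 1 := by
    rw [← pow_two, ← hs, ← orderOf_coe s, pow_orderOf_eq_one]
  have hgs : g * s * g⁻¹ = (x : X) ^ i * s := by rw [hi, mul_assoc _ (s : X) (s : X), hss, mul_one]
  set g' : X := (x : X) ^ i * g
  have h3 : (x : X) ^ (3 : ℤ) = 1 := by
    rw [show (3 : ℤ) = ((3 : ℕ) : ℤ) from rfl, zpow_natCast, ← hx, pow_orderOf_eq_one]
  have hg's : g' * s * g'⁻¹ = s := by
    calc g' * s * g'⁻¹ = (x : X) ^ i * (g * s * g⁻¹) * ((x : X) ^ i)⁻¹ := by simp only [g']; group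
      _ = (x : X) ^ (2 * i) * ((s : X) * (x : X) ^ (-i) * (s : X)⁻¹) * s := by
        rw [hgs, inv_eq_of_mul_eq_one_right hss, two_mul, _root_.zpow_add, zpow_neg]
        simp only [mul_assoc, hss, mul_one]
      _ = s := by
        rw [← conj_zpow, hsx, inv_zpow', neg_neg, ← _root_.zpow_add,
          show 2 * i + i = 3 * i by ring, _root_.zpow_mul, h3, one_zpow, one_mul]
  have hg't : g' * t * g'⁻¹ = t :=
    mul_inv_eq_iff_eq_mul.2 ((hxt.zpow_left i).mul_left hgt).eq
  have hne : t ≠ s := fun e1 => hsA (e1 ▸ hta)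
  have hmem := mem_of_fix hCT hp h2 ht hs hne hts e hg't hg's
  have hxi : (x : X) ^ i ∈ T := zpow_mem x.2 i
  exact (T.mul_mem_cancel_left hxi).1 hmem

include hX hR hCT hsimple in
theorem false_of_seven (hp : (Fintype.card F).Prime) (h2 : (2 : F) ≠ 0) {t a s : T}
    (ha : orderOf a = 4) (ht : orderOf t = 2) (hta : t ∈ zpowers a) (hs : orderOf s = 2)
    (hinv : s * a * s⁻¹ = a⁻¹) (hsA : s ∉ zpowers a)
    (hcent : ∀ c : T, Commute c t → c ∈ zpowers a ∨ c * s ∈ zpowers a) (e : T ≃* PSL2 F) : False := by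
  have htt : t * t = 1 := by rw [← pow_two, ← ht, pow_orderOf_eq_one]
  have hti : t⁻¹ = t := inv_eq_of_mul_eq_one_right htt
  have hss : s * s = 1 := by rw [← pow_two, ← hs, pow_orderOf_eq_one]
  have haa : a * a = t := by
    have h1 : orderOf (a * a) = 2 := orderOf_mul_self (k := 2) ha
    rcases eq_one_or_of_mem_zpowers ht (mem_zpowers_of_orderOf_dvd hta
      (mul_mem (mem_zpowers a) (mem_zpowers a)) (by rw [h1, ht])) with e1 | e1
    · rw [e1, orderOf_one] at h1; omega
    · exact e1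
  have hat : Commute a t := haa ▸ (Commute.refl a).mul_right (Commute.refl a)
  have hne : t ≠ s := fun e1 => hsA (e1 ▸ hta)
  have hts : Commute t s := by
    have h1 : s * t * s⁻¹ = t := by rw [← haa, ← conj_mul, hinv, ← _root_.mul_inv_rev, haa, hti]
    exact (mul_inv_eq_iff_eq_mul.1 h1).symm
  have has : a * s * a⁻¹ = t * s := by
    have h1 := conj_of_mul_mem hss hinv
    rw [haa] at h1
    calc a * s * a⁻¹ = a * s * a⁻¹ * (s * s) := by rw [hss, mul_one]
      _ = t * s := by rw [← mul_assoc, h1]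
  obtain ⟨k, hk1, hk2⟩ := Linear.exists_cycle h2 (a := e t) (b := e s)
    (by rw [MulEquiv.orderOf_eq, ht]) (by rw [MulEquiv.orderOf_eq, hs]) (e.injective.ne hne)
    (hts.map e)
  obtain ⟨k, rfl⟩ := e.surjective k
  rw [← map_inv, ← map_mul, ← map_mul] at hk1
  rw [← map_inv, ← map_mul, ← map_mul, ← map_mul] at hk2
  have k1 := e.injective hk1
  have k2 := e.injective hk2
  have k3 : k * (t * s) * k⁻¹ = t := by
    rw [← conj_mul, k1, k2, ← mul_assoc, hts.symm.eq, mul_assoc, hss, mul_one]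
  have htsX : Commute (t : X) s := hts.map T.subtype
  have hcast : ∀ {p q : T}, p = q → (p : X) = q := fun h => congrArg Subtype.val h
  set V := kSub (t : X) s (hcast htt) (hcast hss) htsX with hVdef
  have tV : (t : X) ∈ V := Or.inr (Or.inl rfl)
  have sV : (s : X) ∈ V := Or.inr (Or.inr (Or.inl rfl))
  have hcard : Nat.card V = 4 := natCard_kSub
    (ne_one_of_orderOf ((orderOf_coe t).trans ht) (by omega))
    (ne_one_of_orderOf ((orderOf_coe s).trans hs) (by omega)) (fun h => hne (Subtype.ext h))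
  have hV1 : V ≠ ⊥ := fun h => by rw [h, card_bot] at hcard; omega
  have hco := hX V hV1 (by rw [hcard]; exact twoPrimes_pow Nat.prime_two 2)
  have hcases : ∀ g ∈ normalizer (V : Set X), ∀ w ∈ V, orderOf w = 2 →
      g * w * g⁻¹ = t ∨ g * w * g⁻¹ = s ∨ g * w * g⁻¹ = (t : X) * s := by
    intro g hg w hw hwo
    rcases mem_kSub.1 ((mem_normalizer_iff.1 hg w).1 hw) with h | h
    · rw [conj_eq_one_iff.1 h, orderOf_one] at hwo; omega
    · exact h
  have k1' : (k : X) * t * (k : X)⁻¹ = s := by simpa using hcast k1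
  have k2' : (k : X) * s * (k : X)⁻¹ = (t : X) * s := by simpa using hcast k2
  have k3' : (k : X) * ((t : X) * s) * (k : X)⁻¹ = t := by simpa using hcast k3
  have hkN : (k : X) ∈ normalizer (V : Set X) := mem_normalizer_of_forall fun w hw => by
    rcases mem_kSub.1 hw with rfl | rfl | rfl | rfl
    · simp
    · rw [k1']; exact sV
    · rw [k2']; exact mul_mem tV sV
    · rw [k3']; exact tV
  have haN : (a : X) ∈ normalizer (V : Set X) := mem_normalizer_of_forall fun w hw => by
    have a1 : (a : X) * t * (a : X)⁻¹ = t := by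
      simpa using hcast (show a * t * a⁻¹ = t by rw [hat.eq, mul_inv_cancel_right])
    have a2 : (a : X) * s * (a : X)⁻¹ = (t : X) * s := by simpa using hcast has
    rcases mem_kSub.1 hw with rfl | rfl | rfl | rfl
    · simp
    · rw [a1]; exact tV
    · rw [a2]; exact mul_mem tV sV
    · rw [← conj_mul, a1, a2]; exact mul_mem tV (mul_mem tV sV)
  have hnle : normalizer (V : Set X) ≤ T := by
    intro g hg
    -- fix `t`
    obtain ⟨c, hcN, hc⟩ : ∃ c : T, (c : X) ∈ normalizer (V : Set X) ∧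
        ((c : X) * g) * t * ((c : X) * g)⁻¹ = t := by
      rcases hcases g hg t tV ((orderOf_coe t).trans ht) with h | h | h
      · exact ⟨1, one_mem _, by simpa using h⟩
      · refine ⟨k⁻¹, by rw [Subgroup.coe_inv]; exact inv_mem hkN, ?_⟩
        rw [Subgroup.coe_inv]
        calc (k : X)⁻¹ * g * t * ((k : X)⁻¹ * g)⁻¹ = (k : X)⁻¹ * (g * t * g⁻¹) * k := by group
          _ = (k : X)⁻¹ * ((k : X) * t * (k : X)⁻¹) * k := by rw [h, k1']
          _ = t := by group
      · refine ⟨k, hkN, ?_⟩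
        calc (k : X) * g * t * ((k : X) * g)⁻¹ = (k : X) * (g * t * g⁻¹) * (k : X)⁻¹ := by group
          _ = t := by rw [h, k3']
    refine (T.mul_mem_cancel_left c.2).1 ?_
    -- fix `s`
    rcases hcases _ (mul_mem hcN hg) s sV ((orderOf_coe s).trans hs) with h | h | h
    · exfalso
      exact hne (Subtype.ext (MulAut.conj ((c : X) * g) |>.injective (hc.trans h.symm)))
    · exact mem_of_fix hCT hp h2 ht hs hne hts e hc h
    · refine (T.mul_mem_cancel_left a.2).1 (mem_of_fix hCT hp h2 ht hs hne hts e ?_ ?_)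
      · calc (a : X) * ((c : X) * g) * t * ((a : X) * ((c : X) * g))⁻¹
            = (a : X) * (((c : X) * g) * t * ((c : X) * g)⁻¹) * (a : X)⁻¹ := by group
          _ = t := by
            rw [hc]; simpa using hcast (show a * t * a⁻¹ = t by rw [hat.eq, mul_inv_cancel_right])
      · calc (a : X) * ((c : X) * g) * s * ((a : X) * ((c : X) * g))⁻¹
            = (a : X) * (((c : X) * g) * s * ((c : X) * g)⁻¹) * (a : X)⁻¹ := by group
          _ = ((a : X) * t * (a : X)⁻¹) * ((a : X) * s * (a : X)⁻¹) := by rw [h, conj_mul]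
          _ = s := by
            have := hcast (show (a * t * a⁻¹) * (a * s * a⁻¹) = s by
              rw [hat.eq, mul_inv_cancel_right, has, ← mul_assoc, htt, one_mul])
            simpa using this
  have hVT : V ≤ T := fun w hw => by
    rcases mem_kSub.1 hw with rfl | rfl | rfl | rfl
    exacts [one_mem _, t.2, s.2, mul_mem t.2 s.2]
  have hkt : ¬ Commute (k : X) t := fun hcomm => by
    rw [hcomm.eq, mul_inv_cancel_right] at k1'
    exact hne (Subtype.ext k1')
  have hTtop : T = ⊤ := by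
    by_contra hTne
    have hN := eq_of_le_of_isCoatom hco hnle hTne
    haveI : (V.subgroupOf T).Normal :=
      (normal_subgroupOf_iff_le_normalizer hVT).2 hN.ge
    rcases (inferInstance : (V.subgroupOf T).Normal).eq_bot_or_eq_top with e1 | e1
    · rw [subgroupOf_eq_bot, disjoint_iff, inf_eq_left.2 hVT] at e1
      exact hV1 e1
    · have hkV : (k : X) ∈ V := subgroupOf_eq_top.1 e1 k.2
      refine hkt ?_
      haveI := hsimple
      rcases mem_kSub.1 hkV with h | h | h | h <;> rw [h]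
      all_goals first
        | exact Commute.one_left _
        | exact htsX.symm
        | exact Commute.mul_left (Commute.refl (t : X)) htsX.symm
  -- now `X` is simple
  have hsN : (s : X) ∈ normalizer (V : Set X) := le_normalizer sV
  have hle : centralizer ({(t : X)} : Set X) ≤ normalizer (V : Set X) := fun c hc => by
    have hcT : c ∈ T := hTtop ▸ mem_top c
    rcases hcent ⟨c, hcT⟩ (Subtype.ext (mem_centralizer_singleton_iff.1 hc)) with h | h
    · obtain ⟨i, hi⟩ := mem_zpowers_iff.1 h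
      rw [show c = (a : X) ^ i by rw [← Subgroup.coe_zpow, hi]]
      exact zpow_mem haN i
    · obtain ⟨i, hi⟩ := mem_zpowers_iff.1 h
      have e1 : c * (s : X) = (a : X) ^ i := by rw [← Subgroup.coe_zpow, hi]; rfl
      rw [show c = (a : X) ^ i * (s : X)⁻¹ by rw [← e1, mul_inv_cancel_right]]
      exact mul_mem (zpow_mem haN i) (inv_mem hsN)
  have heq := eq_of_le_of_isCoatom (isCoatom_centralizer hX hR ((orderOf_coe t).trans ht)) hle hco.1
  exact hkt (mem_centralizer_singleton_iff.1 (heq ▸ hkN))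

/-- Three elements of `A₅`. -/
theorem alt_five : ∃ u v w : alternatingGroup (Fin 5), orderOf u = 2 ∧ orderOf v = 2 ∧ u ≠ v ∧
    Commute u v ∧ (∃ k, k * u * k⁻¹ = v ∧ k * v * k⁻¹ = u * v) ∧
    w * u * w⁻¹ ∉ ({1, u, v, u * v} : Set (alternatingGroup (Fin 5))) := by
  haveI : Fact (Nat.Prime 2) := ⟨Nat.prime_two⟩
  let u : alternatingGroup (Fin 5) :=
    ⟨Equiv.swap 0 1 * Equiv.swap 2 3, by rw [Equiv.Perm.mem_alternatingGroup]; decide⟩
  let v : alternatingGroup (Fin 5) :=
    ⟨Equiv.swap 0 2 * Equiv.swap 1 3, by rw [Equiv.Perm.mem_alternatingGroup]; decide⟩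
  let k : alternatingGroup (Fin 5) :=
    ⟨Equiv.swap 1 2 * Equiv.swap 2 3, by rw [Equiv.Perm.mem_alternatingGroup]; decide⟩
  let w : alternatingGroup (Fin 5) :=
    ⟨Equiv.swap 0 4 * Equiv.swap 0 1, by rw [Equiv.Perm.mem_alternatingGroup]; decide⟩
  refine ⟨u, v, w, orderOf_eq_prime (by decide +kernel) (by decide +kernel),
    orderOf_eq_prime (by decide +kernel) (by decide +kernel), by decide +kernel,
    (show u * v = v * u by decide +kernel), ?_, ?_⟩
  · exact ⟨k, by decide +kernel, by decide +kernel⟩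
  · simp only [Set.mem_insert_iff, Set.mem_singleton_iff]
    decide +kernel

/-- The normalizer of a four-group of `PSL₂(11)` lies in an icosahedral subgroup and is not maximal. -/
theorem false_of_eleven {L : Type u} [Group L] [Finite L] (hL : Hyp L) (hLoc : Loc L)
    (h11 : Fintype.card F = 11) (e : L ≃* PSL2 F) : False := by
  obtain ⟨H, hidx, ⟨f⟩, -⟩ := S2542.result h11
  set H' : Subgroup L := H.comap e.toMonoidHom with hH'
  have hidx' : H'.index = 11 := by
    rw [hH', index_comap_of_surjective _ e.surjective, hidx]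
  obtain ⟨u₀, v₀, w₀, hu, hv, hne, huv, ⟨k₀, hk1, hk2⟩, hw⟩ := alt_five
  let g : alternatingGroup (Fin 5) →* L :=
    (e.symm.toMonoidHom.comp H.subtype).comp f.symm.toMonoidHom
  have hgi : Function.Injective g :=
    (e.symm.injective.comp H.subtype_injective).comp f.symm.injective
  have hgH : ∀ z, g z ∈ H' := fun z => by
    show e (g z) ∈ H
    simp [g]
  set u := g u₀ with hudef
  set v := g v₀ with hvdef
  have huo : orderOf u = 2 := (orderOf_injective g hgi u₀).trans hu
  have hvo : orderOf v = 2 := (orderOf_injective g hgi v₀).trans hv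
  have hne' : u ≠ v := hgi.ne hne
  have huv' : Commute u v := huv.map g
  have huu : u * u = 1 := by rw [← pow_two, ← huo, pow_orderOf_eq_one]
  have hvv : v * v = 1 := by rw [← pow_two, ← hvo, pow_orderOf_eq_one]
  have hp : (Fintype.card F).Prime := by rw [h11]; norm_num
  obtain ⟨m, a, s, ha, hta, hs, hinv, -, hcent, hm⟩ := card_cases hLoc (by omega)
    (by rw [h11]; decide) hp e huo
  have hm3 : m = 3 := by omega
  have hf := fun c (hc : Commute c u) => four_cases (hm3 ▸ (by decide : Odd 3) : Odd m) ha huo hta hs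
    hinv hcent hvo huv'.symm hne'.symm hc
  set W := kSub u v huu hvv huv'
  have hcard : Nat.card W = 4 := natCard_kSub (ne_one_of_orderOf huo (by omega))
    (ne_one_of_orderOf hvo (by omega)) hne'
  have hco := hL W (fun h => by rw [h, card_bot] at hcard; omega)
    (by rw [hcard]; exact twoPrimes_pow Nat.prime_two 2)
  have hk1' : g k₀ * u * (g k₀)⁻¹ = v := by rw [hudef, ← map_inv, ← map_mul, ← map_mul, hk1]
  have hk2' : g k₀ * v * (g k₀)⁻¹ = u * v := by
    rw [hudef, hvdef, ← map_inv, ← map_mul, ← map_mul, ← map_mul, hk2]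
  have hk3' : g k₀ * (u * v) * (g k₀)⁻¹ = u := by
    rw [← conj_mul, hk1', hk2', ← mul_assoc, huv'.symm.eq, mul_assoc, hvv, mul_one]
  have hWH : W ≤ H' := fun z hz => by
    rcases mem_kSub.1 hz with rfl | rfl | rfl | rfl
    exacts [one_mem _, hgH _, hgH _, mul_mem (hgH _) (hgH _)]
  have hkN : g k₀ ∈ normalizer (W : Set L) := mem_normalizer_of_forall fun z hz => by
    rcases mem_kSub.1 hz with rfl | rfl | rfl | rfl
    · simp
    · rw [hk1']; exact Or.inr (Or.inr (Or.inl rfl))
    · rw [hk2']; exact Or.inr (Or.inr (Or.inr rfl))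
    · rw [hk3']; exact Or.inr (Or.inl rfl)
  have hle : normalizer (W : Set L) ≤ H' := by
    intro n hn
    have hcases : ∀ y ∈ normalizer (W : Set L), ∀ z ∈ W, orderOf z = 2 →
        y * z * y⁻¹ = u ∨ y * z * y⁻¹ = v ∨ y * z * y⁻¹ = u * v := fun y hy z hz hzo => by
      rcases mem_kSub.1 ((mem_normalizer_iff.1 hy z).1 hz) with h | h
      · rw [conj_eq_one_iff.1 h, orderOf_one] at hzo; omega
      · exact h
    have uW : u ∈ W := Or.inr (Or.inl rfl)
    have vW : v ∈ W := Or.inr (Or.inr (Or.inl rfl))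
    obtain ⟨c, hcH, hcN, hc⟩ : ∃ c, c ∈ H' ∧ c ∈ normalizer (W : Set L) ∧
        (c * n) * u * (c * n)⁻¹ = u := by
      rcases hcases n hn u uW huo with h | h | h
      · exact ⟨1, one_mem _, one_mem _, by simpa using h⟩
      · refine ⟨(g k₀)⁻¹, inv_mem (hgH _), inv_mem hkN, ?_⟩
        calc (g k₀)⁻¹ * n * u * ((g k₀)⁻¹ * n)⁻¹ = (g k₀)⁻¹ * (n * u * n⁻¹) * g k₀ := by group
          _ = (g k₀)⁻¹ * (g k₀ * u * (g k₀)⁻¹) * g k₀ := by rw [h, hk1']
          _ = u := by group
      · refine ⟨g k₀, hgH _, hkN, ?_⟩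
        calc g k₀ * n * u * (g k₀ * n)⁻¹ = g k₀ * (n * u * n⁻¹) * (g k₀)⁻¹ := by group
          _ = u := by rw [h, hk3']
    obtain ⟨hne2, hmem⟩ := hf (c * n) (mul_inv_eq_iff_eq_mul.1 hc)
    refine (H'.mul_mem_cancel_left hcH).1 (hWH ?_)
    rcases hcases _ (mul_mem hcN hn) v vW hvo with h | h | h
    · exact absurd (MulAut.conj (c * n) |>.injective (hc.trans h.symm)) hne'
    · exact mem_kSub.2 (hmem h)
    · exact absurd h hne2
  have heq := eq_of_le_of_isCoatom hco hle (fun h => by rw [h, index_top] at hidx'; omega)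
  have hwW : g w₀ * u * (g w₀)⁻¹ ∈ W :=
    (mem_normalizer_iff.1 (heq ▸ hgH w₀) u).1 (Or.inr (Or.inl rfl))
  rw [hudef, ← map_inv, ← map_mul, ← map_mul] at hwW
  refine hw ?_
  simp only [Set.mem_insert_iff, Set.mem_singleton_iff]
  rcases mem_kSub.1 hwW with h | h | h | h
  · exact Or.inl (hgi (h.trans (map_one g).symm))
  · exact Or.inr (Or.inl (hgi h))
  · exact Or.inr (Or.inr (Or.inl (hgi h)))
  · exact Or.inr (Or.inr (Or.inr (hgi (h.trans (map_mul g _ _).symm))))

omit hTn in
theorem exists_equiv_zmod (h13 : Fintype.card F = 13) :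
    Nonempty ((PSL2 F) ≃* Matrix.ProjectiveSpecialLinearGroup (Fin 2) (ZMod 13)) :=
  ⟨(Classical.SmallIso.pslCongr (ZMod.ringEquivOfPrime F (by norm_num) h13)).symm⟩

include hX hR in
/-- A nontrivial group with trivial radical and maximal normalizers is `PSL₂(13)`. -/
theorem nonempty_equiv [Nontrivial X] (hList : ListHyp.{u}) :
    Nonempty (X ≃* Matrix.ProjectiveSpecialLinearGroup (Fin 2) (ZMod 13)) := by
  haveI : Fact (Nat.Prime 2) := ⟨Nat.prime_two⟩
  obtain ⟨T, hTn, hsimple, hnc, hCT⟩ := exists_socle hX hR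
  haveI := hTn
  haveI := hsimple
  have hloc : Loc T := loc hX hR hCT hsimple
  rcases hList T hnc (fun t ht => hasNormalPComplement hX hR ht) with
    ⟨F, _, _, h3, ⟨e⟩⟩ | ⟨F, _, _, m, hm, hF, ⟨e⟩⟩ | ⟨⟨e⟩⟩ | ⟨F, _, _, h4, ⟨e⟩⟩
  · by_cases hodd : Odd (Fintype.card F)
    · have hp := prime_card hodd (hloc.of_equiv e)
      have h2 : (2 : F) ≠ 0 := Classical.SylowSL2.two_ne_zero_of_odd hodd
      have h2T : 2 ∣ Nat.card T :=
        two_dvd_of_not_solvable fun hs => hnc ⟨⟨IsSimpleGroup.comm_iff_isSolvable.2 hs⟩⟩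
      obtain ⟨t, ht⟩ := exists_prime_orderOf_dvd_card' (G := T) 2 h2T
      obtain ⟨m, a, s, ha, hta, hs, hinv, hsA, hcent, hm⟩ := card_cases hloc h3 hodd hp e ht
      rcases hm with ⟨-, rfl⟩ | ⟨hq, rfl⟩
      · exact (false_of_seven hX hR hCT hsimple hp h2 ha ht hta hs hinv hsA hcent e).elim
      · have hle := centralizer_le hX hR hCT hp h2 ha ht hta hs hinv hsA e
        have hTtop : T = ⊤ := by
          by_contra hne
          have heq := eq_of_le_of_isCoatom (isCoatom_centralizer hX hR ((orderOf_coe t).trans ht)) hle hne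
          obtain ⟨c, hc, hcn⟩ := not_central hCT (ne_one_of_orderOf ((orderOf_coe t).trans ht) (by omega))
          exact hcn (mem_centralizer_singleton_iff.1 (heq.symm ▸ hc) : c * (t : X) = t * c)
        subst hTtop
        have e' : X ≃* PSL2 F := (Subgroup.topEquiv (G := X)).symm.trans e
        rcases hq with h11 | h13
        · exact (false_of_eleven hX ((hloc.of_equiv (Subgroup.topEquiv (G := X)))) h11 e').elim
        · obtain ⟨e13⟩ := exists_equiv_zmod h13
          exact ⟨e'.trans e13⟩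
    · exact (false_of_even h3 hodd (hloc.of_equiv e)).elim
  · exfalso
    haveI : Fact (Nat.Prime 2) := ⟨Nat.prime_two⟩
    haveI : CharP F 2 := charP_of_card_eq_prime_pow hF
    obtain ⟨e'⟩ := Suzuki.lieEquiv (m := m) hm hF
    exact Models.suzuki hm hF (hloc.of_equiv (e.trans e'.symm))
  · exact (Models.alternating_seven (hloc.of_equiv e)).elim
  · exact (Models.psl_three_four h4 (hloc.of_equiv e)).elim

end Cfsg.Agent.MaxNormalizer.Identify
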