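import Cfsg.Agent.Lib.MaxNormalizer.Basic
import Cfsg.Agent.Lib.MaxNormalizer.Cover
import Cfsg.Agent.Lib.Cores.Basic

/-!
# Lifting: `G = K × S` over `PSL₂(13)`
-/

set_option autoImplicit false
set_option linter.unusedSectionVars false
set_option linter.style.haveILetI false

namespace Cfsg.Agent.MaxNormalizer.Lift

open Subgroup Cfsg.Agent.MaxNormalizer.Basic
open Cfsg.Agent.Forms.KleinPSL (kSub mem_kSub natCard_kSub)
open Cfsg.Agent.MaxNormalizer.Cover (Q)

universe u

/-- The subgroups not in the kernel have the full preimage of the normalizer. -/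
def NormHyp {G : Type u} [Group G] (φ : G →* Q) : Prop :=
  ∀ H : Subgroup G, ¬ H ≤ φ.ker → TwoPrimes (Nat.card H) → ∀ g : G,
    (∀ h ∈ H, φ g * φ h * (φ g)⁻¹ ∈ H.map φ) → g ∈ normalizer (H : Set G)

variable {G : Type u} [Group G] [Finite G] {φ : G →* Q} (hN : NormHyp φ)

/-- A perfect normal subgroup covering the quotient. -/
theorem exists_perfect (hφ : Function.Surjective φ) :
    ∃ K : Subgroup G, K.Normal ∧ ⁅K, K⁆ = K ∧ K.map φ = ⊤ := by
  obtain ⟨K, -, ⟨n, hn⟩, hmin⟩ := exists_minimal_le_of_wellFoundedLT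
    (fun K : Subgroup G => ∃ n, derivedSeries G n = K) ⊤ ⟨0, derivedSeries_zero G⟩
  have hQ : ∀ i, derivedSeries Q i = ⊤ := fun i => by
    induction i with
    | zero => exact derivedSeries_zero Q
    | succ i ih => rw [derivedSeries_succ, ih, ← _root_.commutator_def, Cover.perfect]
  refine ⟨K, hn ▸ derivedSeries_normal G n, le_antisymm K.commutator_le_self
    (hmin ⟨n + 1, by rw [derivedSeries_succ, hn]⟩ K.commutator_le_self), ?_⟩
  rw [← hn, map_derivedSeries_eq hφ, hQ]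

/-- An element of prime power order over an element of prime order. -/
theorem exists_lift {K : Subgroup G} (hKs : K.map φ = ⊤) {l : ℕ} (hl : l.Prime) {q : Q}
    (hq : orderOf q = l) : ∃ x ∈ K, (∃ a, orderOf x = l ^ a) ∧ orderOf (φ x) = l := by
  obtain ⟨k, hk, rfl⟩ : q ∈ K.map φ := hKs ▸ mem_top q
  obtain ⟨a, m, hm, he⟩ : ∃ a m, ¬ l ∣ m ∧ orderOf k = l ^ a * m :=
    Nat.exists_eq_pow_mul_and_not_dvd (orderOf_pos k).ne' l hl.ne_one
  refine ⟨k ^ m, pow_mem hk m, ⟨a, ?_⟩, ?_⟩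
  · rw [orderOf_pow, he, Nat.gcd_eq_right (dvd_mul_left m _),
      Nat.mul_div_cancel _ (Nat.pos_of_ne_zero fun e => hm (by rw [e]; exact dvd_zero l))]
  · rw [map_pow, Nat.Coprime.orderOf_pow (by rw [hq]; exact (Nat.Prime.coprime_iff_not_dvd hl).2 hm), hq]

include hN in
theorem normalizes {H : Subgroup G} (hH : ¬ H ≤ φ.ker) (htp : TwoPrimes (Nat.card H)) {r : G}
    (hr : r ∈ φ.ker) : r ∈ normalizer (H : Set G) :=
  hN H hH htp r fun h hh => by
    rw [MonoidHom.mem_ker.1 hr, one_mul, inv_one, mul_one]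
    exact mem_map_of_mem φ hh

/-- A normal subgroup meeting the perfect cover outside the kernel contains it. -/
theorem le_of_mem (hφ : Function.Surjective φ) (hsol : Group.IsSolvable φ.ker) {K : Subgroup G}
    [K.Normal] (hK : ⁅K, K⁆ = K) (hKs : K.map φ = ⊤) {C : Subgroup G} [C.Normal] {x : G}
    (hx : x ∈ K) (hxC : x ∈ C) (hx1 : φ x ≠ 1) : K ≤ C := by
  haveI := Cover.isSimple
  have hD : (K ⊓ C).map φ = ⊤ :=
    (Normal.eq_bot_or_eq_top ((inferInstance : (K ⊓ C).Normal).map φ hφ)).resolve_left fun h => hx1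
      (mem_bot.1 (h ▸ mem_map_of_mem φ (⟨hx, hxC⟩ : x ∈ K ⊓ C)))
  haveI : (C.subgroupOf K).Normal := inferInstance
  haveI : Group.IsSolvable (K ⊓ φ.ker : Subgroup G) :=
    Group.isSolvable_of_isSolvable_injective (inclusion_injective (inf_le_right : K ⊓ φ.ker ≤ φ.ker))
  have hs : Function.Surjective
      ((QuotientGroup.mk' (C.subgroupOf K)).comp (inclusion (inf_le_left : K ⊓ φ.ker ≤ K))) := by
    intro y
    obtain ⟨k, rfl⟩ := QuotientGroup.mk'_surjective _ y
    obtain ⟨d, hd, hdk⟩ : φ (k : G) ∈ (K ⊓ C).map φ := hD ▸ mem_top _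
    refine ⟨⟨d⁻¹ * (k : G), (mul_mem (inv_mem hd.1) k.2 : d⁻¹ * (k : G) ∈ K),
      (show d⁻¹ * (k : G) ∈ φ.ker by
        rw [MonoidHom.mem_ker, map_mul, map_inv, hdk, inv_mul_cancel])⟩, ?_⟩
    refine (QuotientGroup.eq).2 ?_
    rw [mem_subgroupOf]
    show (d⁻¹ * (k : G))⁻¹ * (k : G) ∈ C
    have e : (d⁻¹ * (k : G))⁻¹ * (k : G) = (k : G)⁻¹ * d * k := by group
    rw [e]
    simpa using (inferInstance : C.Normal).conj_mem d hd.2 (k : G)⁻¹
  haveI : Group.IsSolvable (K ⧸ C.subgroupOf K) := Group.isSolvable_of_surjective hs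
  have hperf : commutator (K ⧸ C.subgroupOf K) = ⊤ := by
    have h1 : commutator K = ⊤ := map_injective K.subtype_injective (by
      rw [map_subtype_commutator, hK, ← MonoidHom.range_eq_map, range_subtype])
    rw [_root_.commutator_def, ← map_top_of_surjective _ (QuotientGroup.mk'_surjective (C.subgroupOf K)),
      ← map_commutator, ← _root_.commutator_def, h1]
  have hsub : Subsingleton (K ⧸ C.subgroupOf K) := by
    by_contra h
    rw [not_subsingleton_iff_nontrivial] at h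
    exact (Group.IsSolvable.commutator_lt_top_of_nontrivial _).ne hperf
  exact fun k hk => mem_subgroupOf.1
    ((QuotientGroup.eq_one_iff (N := C.subgroupOf K) ⟨k, hk⟩).1 (Subsingleton.elim _ _))

include hN in
/-- The commutators with the kernel lie in a normal `l`-subgroup. -/
theorem exists_core (hφ : Function.Surjective φ) (hsol : Group.IsSolvable φ.ker) {K : Subgroup G}
    [K.Normal] (hK : ⁅K, K⁆ = K) (hKs : K.map φ = ⊤) {l : ℕ} (hl : l.Prime) (hd : l ∣ Nat.card Q) :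
    ∃ P : Subgroup G, IsPGroup l P ∧ ∀ k ∈ K, ∀ r ∈ φ.ker, r * k * r⁻¹ * k⁻¹ ∈ P := by
  haveI : Fact l.Prime := ⟨hl⟩
  set R := φ.ker
  set P : Subgroup G := (Cfsg.pCore l R).map R.subtype
  haveI : P.Normal := Cores.normal_map_subtype R (Cfsg.pCore l R)
  obtain ⟨q, hq⟩ := exists_prime_orderOf_dvd_card' (G := Q) l hd
  obtain ⟨x, hxK, ⟨a, hxa⟩, hφx⟩ := exists_lift hKs hl hq
  have hx1 : φ x ≠ 1 := fun e => by rw [e, orderOf_one] at hφx; exact hl.ne_one hφx.symm
  have hxR : ¬ zpowers x ≤ R := fun h => hx1 (MonoidHom.mem_ker.1 (h (mem_zpowers x)))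
  have htp : TwoPrimes (Nat.card (zpowers x)) := by
    rw [Nat.card_zpowers, hxa]; exact twoPrimes_pow hl a
  have hnorm : ∀ r ∈ R, r ∈ normalizer (zpowers x : Set G) := fun r hr => normalizes hN hxR htp hr
  set W : Subgroup R := (zpowers x).subgroupOf R
  haveI : W.Normal := ⟨fun w hw r => by
    rw [mem_subgroupOf] at hw ⊢
    simpa using (mem_normalizer_iff.1 (hnorm r r.2) w).1 hw⟩
  have hWP : W.map R.subtype ≤ P := map_mono (Cores.le_pCore (by
    refine IsPGroup.comap_of_injective ?_ R.subtype R.subtype_injective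
    exact IsPGroup.of_card (n := a) (by rw [Nat.card_zpowers, hxa])))
  haveI : R.Normal := φ.normal_ker
  haveI : (R.map (QuotientGroup.mk' P)).Normal :=
    (inferInstance : R.Normal).map _ (QuotientGroup.mk'_surjective P)
  set C : Subgroup G := (centralizer ((R.map (QuotientGroup.mk' P) : Subgroup (G ⧸ P)) : Set (G ⧸ P))).comap
    (QuotientGroup.mk' P)
  have hmemC : ∀ g : G, g ∈ C ↔ ∀ r ∈ R, r * g * r⁻¹ * g⁻¹ ∈ P := fun g => by
    rw [mem_comap, mem_centralizer_iff]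
    constructor
    · intro h r hr
      have h1 := h _ (mem_map_of_mem _ hr)
      rw [← QuotientGroup.eq_one_iff, ← QuotientGroup.mk'_apply, map_mul, map_mul, map_mul, map_inv,
        map_inv, h1]
      group
    · rintro h _ ⟨r, hr, rfl⟩
      have h1 := h r hr
      rw [← QuotientGroup.eq_one_iff, ← QuotientGroup.mk'_apply, map_mul, map_mul, map_mul, map_inv,
        map_inv, mul_inv_eq_one, mul_inv_eq_iff_eq_mul] at h1
      exact h1
  have hxC : x ∈ C := (hmemC x).2 fun r hr => hWP ⟨⟨r * x * r⁻¹ * x⁻¹, ?_⟩, mem_subgroupOf.2 ?_, rfl⟩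
  rotate_left
  · have h := (inferInstance : R.Normal).conj_mem r⁻¹ (inv_mem hr) x
    have h' := mul_mem hr h
    rwa [show r * (x * r⁻¹ * x⁻¹) = r * x * r⁻¹ * x⁻¹ by group] at h'
  · exact mul_mem ((mem_normalizer_iff.1 (hnorm r hr) x).1 (mem_zpowers x)) (inv_mem (mem_zpowers x))
  exact ⟨P, (Cores.pCore_isPGroup l).map _,
    fun k hk r hr => (hmemC k).1 (le_of_mem hφ hsol hK hKs hxK hxC hx1 hk) r hr⟩

include hN in
theorem commute_ker (hφ : Function.Surjective φ) (hsol : Group.IsSolvable φ.ker) {K : Subgroup G}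
    [K.Normal] (hK : ⁅K, K⁆ = K) (hKs : K.map φ = ⊤) : ∀ k ∈ K, ∀ r ∈ φ.ker, Commute k r := by
  obtain ⟨P, hP, h13⟩ := exists_core hN hφ hsol hK hKs (l := 13) (by norm_num)
    (by rw [Cover.card_Q]; norm_num)
  obtain ⟨P', hP', h7⟩ := exists_core hN hφ hsol hK hKs (l := 7) (by norm_num)
    (by rw [Cover.card_Q]; norm_num)
  haveI : Fact (Nat.Prime 7) := ⟨by norm_num⟩
  intro k hk r hr
  have h1 : r * k * r⁻¹ * k⁻¹ = 1 := by
    obtain ⟨a, ha⟩ := hP ⟨_, h13 k hk r hr⟩
    obtain ⟨b, hb⟩ := hP' ⟨_, h7 k hk r hr⟩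
    exact orderOf_eq_one_iff.1 (Nat.eq_one_of_dvd_coprimes
      (((Nat.coprime_primes (by norm_num : (13 : ℕ).Prime) (by norm_num : (7 : ℕ).Prime)).2
        (by norm_num)).pow a b)
      (orderOf_dvd_of_pow_eq_one (congrArg Subtype.val ha))
      (orderOf_dvd_of_pow_eq_one (congrArg Subtype.val hb)))
  rw [mul_inv_eq_one, mul_inv_eq_iff_eq_mul] at h1
  exact h1.symm

/-- In `PSL₂(13)` a subgroup of odd prime order has a nontrivial automiser. -/
theorem exists_moved {l : ℕ} (hl : l.Prime) (hl2 : l ≠ 2) (hd : l ∣ Nat.card Q) :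
    ∃ q k : Q, orderOf q = l ∧ k * q * k⁻¹ ∈ zpowers q ∧ k * q * k⁻¹ ≠ q := by
  haveI : Fact l.Prime := ⟨hl⟩
  haveI := Cover.isSimple
  obtain ⟨q, hq⟩ := exists_prime_orderOf_dvd_card' (G := Q) l hd
  have hf : (Nat.card Q).factorization l = 1 := by
    refine le_antisymm ?_ ?_
    · by_contra h
      refine Cover.sq_not_dvd hl hl2 ?_
      rw [← Cover.card_Q]
      exact (pow_dvd_pow l (by omega)).trans (Nat.ordProj_dvd _ _)
    · exact (hl.dvd_iff_one_le_factorization Nat.card_pos.ne').1 hd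
  set P : Sylow l Q := Sylow.ofCard (zpowers q) (by rw [Nat.card_zpowers, hq, hf, pow_one])
  have hPq : (P : Subgroup Q) = zpowers q := rfl
  refine ⟨q, ?_⟩
  by_contra hcon
  push Not at hcon
  have hle : normalizer ((P : Subgroup Q) : Set Q) ≤ centralizer ((P : Subgroup Q) : Set Q) := by
    intro k hk
    rw [hPq] at hk ⊢
    have h1 : k * q * k⁻¹ = q := hcon k hq ((mem_normalizer_iff.1 hk q).1 (mem_zpowers q))
    intro y hy
    obtain ⟨i, rfl⟩ := mem_zpowers_iff.1 hy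
    exact (Commute.zpow_left (mul_inv_eq_iff_eq_mul.1 h1).symm i).eq
  have hc := MonoidHom.ker_transferSylow_isComplement' P hle
  have hcm := hc.card_mul
  rcases (inferInstance : (MonoidHom.transferSylow P hle).ker.Normal).eq_bot_or_eq_top with h | h
  · rw [h, card_bot, one_mul, hPq, Nat.card_zpowers, hq, Cover.card_Q] at hcm
    subst hcm
    norm_num at hl
  · rw [h, card_top, hPq, Nat.card_zpowers, hq] at hcm
    have := Nat.card_pos (α := Q)
    have := hl.two_le
    nlinarith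

include hN in
/-- Twisted subgroups: a normalizing element of `K` keeps a subgroup of the product invariant. -/
theorem twist (hφ : Function.Surjective φ) {K : Subgroup G} [K.Normal] (hKs : K.map φ = ⊤)
    (hsurj : Function.Surjective (φ.prod (QuotientGroup.mk' K)))
    (h2 : Nat.card (φ.prod (QuotientGroup.mk' K)).ker ≤ 2) {l : ℕ} (hl : l.Prime)
    (V : Subgroup (Q × (G ⧸ K))) (hV : ∀ r : ℕ, r.Prime → r ∣ Nat.card V → r = 2 ∨ r = l)
    (hne : ∃ v ∈ V, v.1 ≠ 1) (q : Q)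
    (hq : ∀ v ∈ V, ∃ w ∈ V, q * v.1 * q⁻¹ = w.1) :
    ∀ v ∈ V, (q * v.1 * q⁻¹, v.2) ∈ V := by
  set Ψ := φ.prod (QuotientGroup.mk' K)
  set H := V.comap Ψ
  have hH : ¬ H ≤ φ.ker := fun hle => by
    obtain ⟨v, hv, hv1⟩ := hne
    obtain ⟨g, rfl⟩ := hsurj v
    exact hv1 (MonoidHom.mem_ker.1 (hle hv))
  have htp : TwoPrimes (Nat.card H) := by
    refine ⟨2, l, Nat.prime_two, hl, fun r hr hrd => ?_⟩
    haveI : Fact r.Prime := ⟨hr⟩
    obtain ⟨⟨g, hg⟩, hgo⟩ := exists_prime_orderOf_dvd_card' (G := H) r hrd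
    rw [orderOf_mk] at hgo
    have hd : orderOf (Ψ g) ∣ r := hgo ▸ orderOf_map_dvd Ψ g
    rcases (Nat.dvd_prime hr).1 hd with h1 | h1
    · left
      have hgk : g ∈ Ψ.ker := MonoidHom.mem_ker.2 (orderOf_eq_one_iff.1 h1)
      have hdk : r ∣ Nat.card Ψ.ker := hgo ▸ Subgroup.orderOf_dvd_natCard _ hgk
      have := Nat.le_of_dvd Nat.card_pos hdk
      have := hr.two_le
      omega
    · exact hV r hr (h1 ▸ Subgroup.orderOf_dvd_natCard _ (show Ψ g ∈ V from hg))
  obtain ⟨k, hk, rfl⟩ : q ∈ K.map φ := hKs ▸ mem_top q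
  have hkN : k ∈ normalizer (H : Set G) := hN H hH htp k fun h hh => by
    obtain ⟨w, hw, he⟩ := hq _ (show Ψ h ∈ V from hh)
    obtain ⟨g, rfl⟩ := hsurj w
    exact ⟨g, hw, he.symm⟩
  intro v hv
  obtain ⟨g, rfl⟩ := hsurj v
  have h : Ψ (k * g * k⁻¹) ∈ V := (mem_normalizer_iff.1 hkN g).1 hv
  have hk1 : (QuotientGroup.mk' K) k = 1 := (QuotientGroup.eq_one_iff k).2 hk
  simpa [Ψ, MonoidHom.prod_apply, map_mul, map_inv, hk1] using h

include hN in
theorem main (hφ : Function.Surjective φ) (hsol : Group.IsSolvable φ.ker)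
    (hOdd : ∀ (S : Subgroup G), Odd (Nat.card S) →
      (∀ (p k : ℕ) (x : S), p.Prime → orderOf x = p ^ k → ∀ g : S, g * x * g⁻¹ ∈ zpowers x) →
      IsMulCommutative S) :
    ∃ K S : Subgroup G, K.Normal ∧ S.Normal ∧ K ⊓ S = ⊥ ∧ K ⊔ S = ⊤ ∧
      (Nonempty (K ≃* Matrix.ProjectiveSpecialLinearGroup (Fin 2) (ZMod 13)) ∨
        Nonempty (K ≃* Matrix.SpecialLinearGroup (Fin 2) (ZMod 13))) ∧
      IsMulCommutative S ∧ (Nat.card K).Coprime (Nat.card S) := by
  obtain ⟨K, hKn, hK, hKs⟩ := exists_perfect hφ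
  haveI := hKn
  have hcomm := commute_ker hN hφ hsol hK hKs
  set R := φ.ker with hRdef
  set π : K →* Q := φ.comp K.subtype
  have hπ : Function.Surjective π := fun q => by
    obtain ⟨k, hk, rfl⟩ : q ∈ K.map φ := hKs ▸ mem_top q
    exact ⟨⟨k, hk⟩, rfl⟩
  have hcK : commutator K = ⊤ := map_injective K.subtype_injective (by
    rw [map_subtype_commutator, hK, ← MonoidHom.range_eq_map, range_subtype])
  have hcen : π.ker ≤ center K := fun z hz => mem_center_iff.2 fun k =>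
    Subtype.ext (hcomm (k : G) k.2 (z : G) (MonoidHom.mem_ker.2 (MonoidHom.mem_ker.1 hz))).eq
  have hid := Cover.identify π hπ hcK hcen
  have hiso : Nonempty (K ≃* Q) ∨ Nonempty (K ≃* Matrix.SpecialLinearGroup (Fin 2) (ZMod 13)) := by
    rcases hid with ⟨-, h⟩ | ⟨-, h⟩
    exacts [Or.inl h, Or.inr h]
  have hz : Nat.card π.ker = 1 ∨ Nat.card π.ker = 2 := by
    rcases hid with ⟨h, -⟩ | ⟨h, -⟩
    · exact Or.inl (by rw [h, card_bot])
    · exact Or.inr h
  set Ψ := φ.prod (QuotientGroup.mk' K) with hΨ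
  have hdec : ∀ g : G, ∃ k ∈ K, ∃ r ∈ R, g = k * r := fun g => by
    obtain ⟨k, hk, he⟩ : φ g ∈ K.map φ := hKs ▸ mem_top _
    exact ⟨k, hk, k⁻¹ * g, by rw [hRdef, MonoidHom.mem_ker, map_mul, map_inv, he, inv_mul_cancel],
      by group⟩
  have hΨs : Function.Surjective Ψ := by
    rintro ⟨q, y⟩
    obtain ⟨k, hk, rfl⟩ : q ∈ K.map φ := hKs ▸ mem_top q
    obtain ⟨g, rfl⟩ := QuotientGroup.mk'_surjective K y
    obtain ⟨k', hk', r, hr, rfl⟩ := hdec g
    refine ⟨k * r, Prod.ext ?_ ?_⟩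
    · show φ (k * r) = φ k
      rw [map_mul, MonoidHom.mem_ker.1 hr, mul_one]
    · show QuotientGroup.mk' K (k * r) = QuotientGroup.mk' K (k' * r)
      have e1 : QuotientGroup.mk' K k = 1 := (QuotientGroup.eq_one_iff k).2 hk
      have e2 : QuotientGroup.mk' K k' = 1 := (QuotientGroup.eq_one_iff k').2 hk'
      rw [map_mul, map_mul, e1, e2]
  have hΨk : Nat.card Ψ.ker = Nat.card π.ker := by
    refine Nat.card_congr
      { toFun := fun g => ⟨⟨g, (QuotientGroup.eq_one_iff _).1 (congrArg Prod.snd g.2)⟩,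
          congrArg Prod.fst g.2⟩
        invFun := fun k => ⟨(k : K), Prod.ext k.2 ((QuotientGroup.eq_one_iff _).2 (k : K).2)⟩
        left_inv := fun g => rfl
        right_inv := fun k => rfl }
  have hle2 : Nat.card Ψ.ker ≤ 2 := by omega
  set N := Nat.card (G ⧸ K) with hNdef
  -- no element of order 3, 7 or 13 in the quotient
  have hnl : ∀ l : ℕ, l.Prime → l ≠ 2 → l ∣ Nat.card Q → ¬ l ∣ N := by
    intro l hl hl2 hlQ hlN
    haveI : Fact l.Prime := ⟨hl⟩
    obtain ⟨q, k, hq, hkq, hkne⟩ := exists_moved hl hl2 hlQ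
    obtain ⟨c, hc⟩ := exists_prime_orderOf_dvd_card' (G := G ⧸ K) l hlN
    have hv : orderOf ((q, c) : Q × (G ⧸ K)) = l := by rw [Prod.orderOf_mk, hq, hc, Nat.lcm_self]
    have h := twist hN hφ hKs hΨs hle2 hl (zpowers (q, c))
      (fun r hr hrd => Or.inr ((Nat.prime_dvd_prime_iff_eq hr hl).1 (by rwa [Nat.card_zpowers, hv] at hrd)))
      ⟨(q, c), mem_zpowers _, fun e => hl.ne_one (by rw [← hq, show q = 1 from e, orderOf_one])⟩ k ?_
      (q, c) (mem_zpowers _)
    · obtain ⟨i, hi⟩ := mem_zpowers_iff.1 h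
      have h1 : q ^ i = k * q * k⁻¹ := congrArg Prod.fst hi
      have h2 : c ^ i = c := congrArg Prod.snd hi
      have h3 : i ≡ 1 [ZMOD (l : ℤ)] := by
        rw [← hc]; exact zpow_eq_zpow_iff_modEq.1 (by rw [h2, zpow_one])
      rw [← hq] at h3
      rw [zpow_eq_zpow_iff_modEq.2 h3, zpow_one] at h1
      exact hkne h1.symm
    · intro v hv'
      obtain ⟨i, rfl⟩ := mem_zpowers_iff.1 hv'
      obtain ⟨j, hj⟩ := mem_zpowers_iff.1 hkq
      refine ⟨(q, c) ^ (j * i), zpow_mem (mem_zpowers _) _, ?_⟩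
      show k * q ^ i * k⁻¹ = q ^ (j * i)
      rw [_root_.zpow_mul, hj, conj_zpow]
  -- no involution in the quotient
  have hodd : Odd N := by
    rw [← Nat.not_even_iff_odd]
    intro hev
    haveI : Fact (Nat.Prime 2) := ⟨Nat.prime_two⟩
    obtain ⟨c, hc⟩ := exists_prime_orderOf_dvd_card' (G := G ⧸ K) 2 (even_iff_two_dvd.1 hev)
    obtain ⟨a, b, k, ha, hb, hne, hab, hk1, hk2⟩ := Cover.exists_four
    have haa : a * a = 1 := Forms.KleinPSL.mul_self_of_order_two ha
    have hbb : b * b = 1 := Forms.KleinPSL.mul_self_of_order_two hb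
    have hcc : c * c = 1 := Forms.KleinPSL.mul_self_of_order_two hc
    have hk3 : k * (a * b) * k⁻¹ = a := by
      rw [← conj_mul, hk1, hk2, ← mul_assoc, hab.symm.eq, mul_assoc, hbb, mul_one]
    have ha1 : a ≠ 1 := fun e => by rw [e, orderOf_one] at ha; omega
    have hb1 : b ≠ 1 := fun e => by rw [e, orderOf_one] at hb; omega
    have hc1 : c ≠ 1 := fun e => by rw [e, orderOf_one] at hc; omega
    set A : Q × (G ⧸ K) := (a, 1)
    set B : Q × (G ⧸ K) := (b, c)
    have hA : A * A = 1 := Prod.ext haa (one_mul 1)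
    have hB : B * B = 1 := Prod.ext hbb hcc
    have hAB : Commute A B := Prod.ext hab.eq ((one_mul c).trans (mul_one c).symm)
    set V := kSub A B hA hB hAB
    have hcard : Nat.card V = 4 := natCard_kSub (fun e => ha1 (congrArg Prod.fst e))
      (fun e => hb1 (congrArg Prod.fst e)) (fun e => hne (congrArg Prod.fst e))
    have h := twist hN hφ hKs hΨs hle2 Nat.prime_two V
      (fun r hr hrd => Or.inl ((Nat.prime_dvd_prime_iff_eq hr Nat.prime_two).1
        (hr.dvd_of_dvd_pow (n := 2) (by rw [hcard] at hrd; exact hrd))))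
      ⟨A, Or.inr (Or.inl rfl), ha1⟩ k ?_ A (Or.inr (Or.inl rfl))
    · rcases mem_kSub.1 h with e | e | e | e
      · exact hb1 (hk1.symm.trans (congrArg Prod.fst e))
      · exact hne ((hk1.symm.trans (congrArg Prod.fst e)).symm)
      · exact hc1 (congrArg Prod.snd e).symm
      · exact hc1 ((congrArg Prod.snd e).trans (one_mul c)).symm
    · intro v hv'
      rcases mem_kSub.1 hv' with rfl | rfl | rfl | rfl
      · exact ⟨1, one_mem _, by simp⟩
      · exact ⟨B, Or.inr (Or.inr (Or.inl rfl)), hk1⟩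
      · exact ⟨A * B, Or.inr (Or.inr (Or.inr rfl)), hk2⟩
      · exact ⟨A, Or.inr (Or.inl rfl), hk3⟩
  -- orders
  have hcardK : Nat.card K = 1092 * Nat.card π.ker := by
    rw [Subgroup.card_eq_card_quotient_mul_card_subgroup π.ker,
      Nat.card_congr (QuotientGroup.quotientKerEquivOfSurjective π hπ).toEquiv, Cover.card_Q]
  have hcardR : Nat.card R = Nat.card π.ker * N := by
    have h1 := Subgroup.card_eq_card_quotient_mul_card_subgroup R
    rw [Nat.card_congr (QuotientGroup.quotientKerEquivOfSurjective φ hφ).toEquiv, Cover.card_Q,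
      Subgroup.card_eq_card_quotient_mul_card_subgroup K, ← hNdef, hcardK] at h1
    linarith
  have hcopN : Nat.Coprime 1092 N := by
    refine Nat.coprime_of_dvd fun l hl hl1 hl2 => ?_
    by_cases h2 : l = 2
    · subst h2
      exact (Nat.not_even_iff_odd.2 hodd) (even_iff_two_dvd.2 hl2)
    · exact hnl l hl h2 (Cover.card_Q.symm ▸ hl1) hl2
  have hcopZ : Nat.Coprime (Nat.card π.ker) N := by
    rcases hz with h | h <;> rw [h]
    · exact Nat.coprime_one_left N
    · exact Nat.coprime_two_left.2 hodd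
  -- the odd part of the radical
  set Z : Subgroup R := K.subgroupOf R
  have hZc : Nat.card Z = Nat.card π.ker := Nat.card_congr
    { toFun := fun z => ⟨⟨((z : R) : G), mem_subgroupOf.1 z.2⟩, (z : R).2⟩
      invFun := fun k => ⟨⟨((k : K) : G), k.2⟩, mem_subgroupOf.2 (k : K).2⟩
      left_inv := fun z => rfl
      right_inv := fun k => rfl }
  have hZi : Z.index = N := by
    have h1 := Z.card_mul_index
    rw [hZc, hcardR] at h1
    exact Nat.eq_of_mul_eq_mul_left Nat.card_pos h1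
  obtain ⟨C, hC⟩ := Subgroup.exists_right_complement'_of_coprime (N := Z) (by rwa [hZc, hZi])
  haveI : C.Normal := ⟨fun c hc g => by
    obtain ⟨⟨z, c'⟩, e⟩ := hC.2 g
    subst e
    have hcz : ∀ y : R, (z : R) * y = y * (z : R) := fun y =>
      Subtype.ext (hcomm _ (mem_subgroupOf.1 z.2) (y : G) y.2).eq
    have e : ((z : R) * (c' : R)) * c * ((z : R) * (c' : R))⁻¹ = (c' : R) * c * (c' : R)⁻¹ := by
      calc ((z : R) * (c' : R)) * c * ((z : R) * (c' : R))⁻¹
          = (z : R) * ((c' : R) * c * (c' : R)⁻¹) * (z : R)⁻¹ := by group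
        _ = _ := by rw [hcz, mul_inv_cancel_right]
    rw [e]
    exact mul_mem (mul_mem c'.2 hc) (inv_mem c'.2)⟩
  set S := C.map R.subtype
  have hSR : S ≤ R := map_subtype_le C
  have hScard : Nat.card S = N := by
    rw [card_map_of_injective R.subtype_injective]
    have h1 := hC.card_mul
    rw [hZc, hcardR] at h1
    exact Nat.eq_of_mul_eq_mul_left Nat.card_pos h1
  haveI hSn : S.Normal := ⟨fun s hs g => by
    obtain ⟨k, hk, r, hr, rfl⟩ := hdec g
    obtain ⟨c, hc, rfl⟩ := hs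
    have h1 : (r * c * r⁻¹ : G) ∈ R := mul_mem (mul_mem hr c.2) (inv_mem hr)
    refine ⟨⟨r, hr⟩ * c * ⟨r, hr⟩⁻¹, Normal.conj_mem inferInstance c hc _, ?_⟩
    show (r * c * r⁻¹ : G) = k * r * c * (k * r)⁻¹
    rw [show k * r * (c : G) * (k * r)⁻¹ = k * (r * c * r⁻¹) * k⁻¹ by group, (hcomm k hk _ h1).eq,
      mul_inv_cancel_right]⟩
  have hcop : (Nat.card K).Coprime (Nat.card S) := by
    rw [hcardK, hScard]; exact Nat.Coprime.mul_left hcopN hcopZ
  refine ⟨K, S, hKn, hSn, inf_eq_bot_of_coprime hcop, ?_, hiso, ?_, hcop⟩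
  · refine eq_top_iff.2 fun g _ => ?_
    obtain ⟨k, hk, r, hr, rfl⟩ := hdec g
    obtain ⟨⟨z, c⟩, e⟩ := hC.2 ⟨r, hr⟩
    refine mul_mem (mem_sup_left hk) ?_
    have e' : r = ((z : R) : G) * ((c : R) : G) := (congrArg Subtype.val e).symm
    rw [e']
    exact mul_mem (mem_sup_left (mem_subgroupOf.1 z.2)) (mem_sup_right ⟨c, c.2, rfl⟩)
  · refine hOdd S (hScard ▸ hodd) fun p j c hp hc g => ?_
    have h13Q : 13 ∣ Nat.card Q := by rw [Cover.card_Q]; norm_num
    have h13 : (13 : ℕ).Prime := by norm_num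
    rcases Nat.eq_zero_or_pos j with rfl | hj
    · rw [orderOf_eq_one_iff.1 (hc.trans (pow_zero p))]; simp
    have hp13 : p ≠ 13 := fun e => by
      subst e
      refine hnl 13 h13 (by omega) h13Q ?_
      have h1 := (dvd_pow_self 13 hj.ne').trans (hc ▸ orderOf_dvd_natCard c)
      rwa [hScard] at h1
    obtain ⟨q, hq⟩ := exists_prime_orderOf_dvd_card' (G := Q) 13 h13Q
    obtain ⟨x, hxK, ⟨a, hxa⟩, hφx⟩ := exists_lift hKs h13 hq
    have hxc := hcomm x hxK (c : G) (hSR c.2)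
    have hco : orderOf (c : G) = p ^ j := by rw [orderOf_coe]; exact hc
    have hord : orderOf (x * c) = 13 ^ a * p ^ j := by
      rw [hxc.orderOf_mul_eq_mul_orderOf_of_coprime, hxa, hco]
      rw [hxa, hco]
      exact ((Nat.coprime_primes h13 hp).2 (Ne.symm hp13)).pow a j
    have hφc : φ (c : G) = 1 := MonoidHom.mem_ker.1 (hSR c.2)
    have hnot : ¬ zpowers (x * c) ≤ φ.ker := fun h => by
      have h1 := MonoidHom.mem_ker.1 (h (mem_zpowers _))
      rw [map_mul, hφc, mul_one] at h1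
      rw [h1, orderOf_one] at hφx
      omega
    have hg := normalizes hN hnot
      (by rw [Nat.card_zpowers, hord]; exact twoPrimes_pow_mul h13 hp a j) (hSR g.2)
    have hcm : (c : G) ∈ zpowers (x * c) := by
      have hcop' : Nat.Coprime (orderOf (c : G)) (13 ^ a) := by
        rw [hco]; exact ((Nat.coprime_primes hp h13).2 hp13).pow j a
      obtain ⟨m, hm⟩ := exists_pow_eq_self_of_coprime (x := (c : G)) hcop'.symm
      have h1 : (x * c) ^ (13 ^ a) = (c : G) ^ (13 ^ a) := by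
        rw [hxc.mul_pow, ← hxa, pow_orderOf_eq_one, one_mul]
      have h2 : ((x * c) ^ (13 ^ a)) ^ m ∈ zpowers (x * c) := pow_mem (pow_mem (mem_zpowers _) _) _
      rwa [h1, hm] at h2
    obtain ⟨i, hi⟩ := mem_zpowers_iff.1 (mem_zpowers_of_orderOf_dvd hcm
      ((mem_normalizer_iff.1 hg _).1 hcm) (by rw [← MulAut.conj_apply, MulEquiv.orderOf_eq]))
    exact mem_zpowers_iff.2 ⟨i, Subtype.ext (by simpa using hi)⟩

end Cfsg.Agent.MaxNormalizer.Lift
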