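import Cfsg.Agent.Lib.MaxNormalizer.Basic
import Cfsg.Agent.Lib.Transfer.Frobenius

/-!
# Involution centralizers and the local conditions on the socle
-/

set_option autoImplicit false
set_option linter.unusedSectionVars false
set_option linter.style.haveILetI false

namespace Cfsg.Agent.MaxNormalizer.Local

open Subgroup Cfsg.Agent.MaxNormalizer.Basic

universe u v

/-- The local conditions inherited by the socle. -/
structure Loc (L : Type*) [Group L] : Prop where
  cent : ∀ t : L, orderOf t = 2 → ∀ n : L,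
    (∀ c : L, Commute c t → Commute (n * c * n⁻¹) t) → Commute n t
  odd_conj : ∀ t x n : L, orderOf t = 2 → (orderOf x).Prime → orderOf x ≠ 2 → Commute x t →
    n * x * n⁻¹ ∈ zpowers x → Commute n t
  uni : ∀ u : L, (orderOf u).Prime → ∀ n : L,
    (∀ c : L, Commute c u → Commute (n * c * n⁻¹) u) → n * u * n⁻¹ ∈ zpowers u
  dihedral : ∀ x s y : L, (orderOf x).Prime → orderOf x ≠ 2 → orderOf s = 2 →
    s * x * s⁻¹ = x⁻¹ → y * x * y⁻¹ ∈ zpowers x → y * s * y⁻¹ * s ∈ zpowers x

theorem mem_normalizer_of_forall {G : Type*} [Group G] [Finite G] {g : G} {H : Subgroup G}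
    (h : ∀ x ∈ H, g * x * g⁻¹ ∈ H) : g ∈ normalizer (H : Set G) := by
  have hle : H.map (MulAut.conj g).toMonoidHom ≤ H := by
    rintro _ ⟨x, hx, rfl⟩; exact h x hx
  have heq := eq_of_le_of_card_ge hle
    (card_map_of_injective (MulAut.conj g).injective (K := H)).ge
  refine mem_normalizer_iff.2 fun x => ⟨h x, fun hx => ?_⟩
  obtain ⟨y, hy, e⟩ : g * x * g⁻¹ ∈ H.map (MulAut.conj g).toMonoidHom := heq.symm ▸ hx
  exact (MulAut.conj g).injective e ▸ hy

variable {X : Type u} [Group X] [Finite X] (hX : Hyp X) (hR : TrivRad X)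

theorem eq_of_le_of_isCoatom {M N : Subgroup X} (hM : IsCoatom M) (hle : M ≤ N) (hN : N ≠ ⊤) :
    M = N :=
  hle.eq_or_lt.resolve_right fun hlt => hN (hM.2 N hlt)

theorem mem_zpowers_normalizer {x : X} {g : X} (h : g ∈ normalizer (zpowers x : Set X)) :
    g * x * g⁻¹ ∈ zpowers x :=
  (mem_normalizer_iff.1 h x).1 (mem_zpowers x)

theorem normalizer_zpowers_of_conj {x g : X} (h : g * x * g⁻¹ ∈ zpowers x) :
    g ∈ normalizer (zpowers x : Set X) := by
  refine mem_normalizer_of_forall fun y hy => ?_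
  obtain ⟨k, rfl⟩ := mem_zpowers_iff.1 hy
  rw [← conj_zpow]
  exact zpow_mem h k

theorem ne_one_of_orderOf {t : X} {n : ℕ} (ht : orderOf t = n) (hn : n ≠ 1) : t ≠ 1 := fun e =>
  hn (by rw [← ht, e, orderOf_one])

include hR in
theorem zpowers_normalizer_ne_top {x : X} (hx : x ≠ 1) : normalizer (zpowers x : Set X) ≠ ⊤ :=
  fun h => hx (mem_bot.1 (hR _ (normalizer_eq_top_iff.1 h) solvable_of_comm ▸ mem_zpowers x))

include hX hR in
theorem isCoatom_centralizer {t : X} (ht : orderOf t = 2) : IsCoatom (centralizer ({t} : Set X)) := by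
  have h1 := ne_one_of_orderOf ht (by omega)
  have h := hX (zpowers t) (fun e => h1 (mem_bot.1 (e ▸ mem_zpowers t)))
    (by rw [Nat.card_zpowers, ht]; simpa using twoPrimes_pow Nat.prime_two 1)
  have he : normalizer (zpowers t : Set X) = centralizer ({t} : Set X) := by
    refine le_antisymm (fun g hg => ?_) (fun g hg => normalizer_zpowers_of_conj ?_)
    · rcases eq_one_or_of_mem_zpowers ht (mem_zpowers_normalizer hg) with e | e
      · exact absurd (conj_eq_one_iff.1 e) h1
      · exact mem_centralizer_singleton_iff.2 (mul_inv_eq_iff_eq_mul.1 e)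
    · rw [mem_centralizer_singleton_iff.1 hg, mul_inv_cancel_right]; exact mem_zpowers t
  rwa [he] at h

include hX hR in
/-- An odd prime-power element commuting with an involution has the same local subgroup. -/
theorem normalizer_zpowers_eq {t g : X} (ht : orderOf t = 2) {r k : ℕ} (hr : r.Prime) (hr2 : r ≠ 2)
    (hg : orderOf g = r ^ k) (hg1 : g ≠ 1) (hc : Commute g t) :
    normalizer (zpowers g : Set X) = centralizer ({t} : Set X) := by
  have hcop : Nat.Coprime (orderOf t) (orderOf g) := by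
    rw [ht, hg]
    exact ((Nat.coprime_primes Nat.prime_two hr).2 hr2.symm).pow_right k
  have ho : orderOf (t * g) = 2 * r ^ k := by
    rw [hc.symm.orderOf_mul_eq_mul_orderOf_of_coprime hcop, ht, hg]
  have hodd : Odd (orderOf g) := hg ▸ (hr.odd_of_ne_two hr2).pow
  have htm : t ∈ zpowers (t * g) := by
    refine mem_zpowers_iff.2 ⟨orderOf g, ?_⟩
    rw [zpow_natCast, hc.symm.mul_pow, pow_orderOf_eq_one, mul_one, ← pow_mod_orderOf, ht,
      Nat.odd_iff.1 hodd, pow_one]
  have hgm : g ∈ zpowers (t * g) := by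
    have := mul_mem (inv_mem htm) (mem_zpowers (t * g))
    rwa [inv_mul_cancel_left] at this
  have hne : zpowers (t * g) ≠ ⊥ := fun e => hg1 (mem_bot.1 (e ▸ hgm))
  have hH := hX _ hne (by rw [Nat.card_zpowers, ho]; simpa using twoPrimes_pow_mul Nat.prime_two hr 1 k)
  have hle : normalizer (zpowers (t * g) : Set X) ≤ centralizer ({t} : Set X) := fun y hy => by
    rcases eq_one_or_of_mem_zpowers ht (mem_zpowers_of_orderOf_dvd htm
      ((mem_normalizer_iff.1 hy t).1 htm) (by rw [← MulAut.conj_apply, MulEquiv.orderOf_eq])) with e | e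
    · exact absurd (conj_eq_one_iff.1 e) (ne_one_of_orderOf ht (by omega))
    · exact mem_centralizer_singleton_iff.2 (mul_inv_eq_iff_eq_mul.1 e)
  have heq := eq_of_le_of_isCoatom hH hle (isCoatom_centralizer hX hR ht).1
  have hle' : centralizer ({t} : Set X) ≤ normalizer (zpowers g : Set X) := fun y hy =>
    normalizer_zpowers_of_conj (mem_zpowers_of_orderOf_dvd hgm
      ((mem_normalizer_iff.1 (heq.symm ▸ hy) g).1 hgm)
      (by rw [← MulAut.conj_apply, MulEquiv.orderOf_eq]))
  exact (eq_of_le_of_isCoatom (isCoatom_centralizer hX hR ht) hle'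
    (zpowers_normalizer_ne_top hR hg1)).symm

include hX hR in
/-- Every odd order element of an involution centralizer generates a normal subgroup of it. -/
theorem conj_mem_zpowers {t h : X} (ht : orderOf t = 2) (hh : Commute h t) :
    ∀ (n : ℕ) (g : X), orderOf g = n → Odd n → Commute g t → h * g * h⁻¹ ∈ zpowers g := by
  intro n
  induction n using Nat.recOnPosPrimePosCoprime with
  | prime_pow p k hp hk =>
    intro g hg hodd hc
    have hp2 : p ≠ 2 := fun e => by
      subst e; rw [Nat.odd_pow_iff hk.ne'] at hodd; exact absurd hodd (by decide)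
    have hg1 : g ≠ 1 := ne_one_of_orderOf hg (Nat.one_lt_pow hk.ne' hp.one_lt).ne'
    exact mem_zpowers_normalizer (normalizer_zpowers_eq hX hR ht hp hp2 hg hg1 hc ▸
      mem_centralizer_singleton_iff.2 hh.eq)
  | zero => intro g _ hodd; exact absurd hodd (by decide)
  | one => intro g hg _ _; rw [orderOf_eq_one_iff.1 hg]; simp
  | coprime a b ha hb hab iha ihb =>
    intro g hg hodd hc
    obtain ⟨ha', hb'⟩ := Nat.odd_mul.1 hodd
    have h1 : orderOf (g ^ b) = a := by
      rw [orderOf_pow, hg, Nat.gcd_eq_right (dvd_mul_left b a), Nat.mul_div_cancel _ (by omega)]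
    have h2 : orderOf (g ^ a) = b := by
      rw [orderOf_pow, hg, Nat.gcd_eq_right (dvd_mul_right a b), Nat.mul_div_cancel_left _ (by omega)]
    have m1 := iha (g ^ b) h1 ha' (hc.pow_left b)
    have m2 := ihb (g ^ a) h2 hb' (hc.pow_left a)
    have l1 : zpowers (g ^ b) ≤ zpowers g := zpowers_le.2 (pow_mem (mem_zpowers g) b)
    have l2 : zpowers (g ^ a) ≤ zpowers g := zpowers_le.2 (pow_mem (mem_zpowers g) a)
    have e : (1 : ℤ) = (a : ℤ) * Nat.gcdA a b + (b : ℤ) * Nat.gcdB a b := by
      rw [← Nat.gcd_eq_gcd_ab, Nat.coprime_iff_gcd_eq_one.1 hab]; rfl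
    have hg' : g = (g ^ a) ^ Nat.gcdA a b * (g ^ b) ^ Nat.gcdB a b := by
      rw [← zpow_natCast g a, ← zpow_natCast g b, ← zpow_mul, ← zpow_mul, ← zpow_add, ← e, zpow_one]
    have := mul_mem (zpow_mem (l2 m2) (Nat.gcdA a b)) (zpow_mem (l1 m1) (Nat.gcdB a b))
    rwa [conj_zpow, conj_zpow, conj_mul, ← hg'] at this

variable {T : Subgroup X} [hTn : T.Normal] (hT0 : T ≠ ⊥) (hCT : centralizer (T : Set X) = ⊥)
  (hsimple : IsSimpleGroup T)

include hCT in
theorem not_central {x : X} (hx : x ≠ 1) : ∃ c ∈ T, ¬ Commute c x := by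
  by_contra h
  push Not at h
  exact hx (mem_bot.1 (hCT ▸ (fun c hc => (h c hc).eq : x ∈ centralizer (T : Set X))))

include hsimple in
theorem normalizer_ne_top {D : Subgroup X} (hle : D ≤ T) (h1 : D ≠ ⊥) (h2 : D ≠ T) :
    normalizer (D : Set X) ≠ ⊤ := fun h => by
  haveI : D.Normal := normalizer_eq_top_iff.1 h
  rcases (inferInstance : (D.subgroupOf T).Normal).eq_bot_or_eq_top with e | e
  · rw [subgroupOf_eq_bot, disjoint_iff, inf_eq_left.2 hle] at e
    exact h1 e
  · exact h2 (le_antisymm hle (subgroupOf_eq_top.1 e))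

include hX hR hCT hsimple in
/-- The centralizer in the socle of an involution of the socle is self-normalizing. -/
theorem commute_of_normalizing {t : X} (htT : t ∈ T) (ht : orderOf t = 2) {n : X}
    (h : ∀ c ∈ T, Commute c t → Commute (n * c * n⁻¹) t) : Commute n t := by
  set D := T ⊓ centralizer ({t} : Set X)
  have hle : centralizer ({t} : Set X) ≤ normalizer (D : Set X) := fun g hg =>
    mem_normalizer_of_forall fun c hc => ⟨hTn.conj_mem c hc.1 g,
      (show g * c * g⁻¹ ∈ centralizer ({t} : Set X) from mul_mem (mul_mem hg hc.2) (inv_mem hg))⟩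
  have hne : normalizer (D : Set X) ≠ ⊤ := by
    refine normalizer_ne_top hsimple inf_le_left (fun e => ?_) (fun e => ?_)
    · have : t ∈ D := ⟨htT, mem_centralizer_singleton_iff.2 rfl⟩
      rw [e, mem_bot] at this
      exact ne_one_of_orderOf ht (by omega) this
    · obtain ⟨c, hc, hcn⟩ := not_central hCT (ne_one_of_orderOf ht (by omega))
      exact hcn (mem_centralizer_singleton_iff.1 (inf_eq_left.1 e hc) : c * t = t * c)
  have heq := eq_of_le_of_isCoatom (isCoatom_centralizer hX hR ht) hle hne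
  have hn : n ∈ normalizer (D : Set X) := mem_normalizer_of_forall fun c hc =>
    ⟨hTn.conj_mem c hc.1 n,
      mem_centralizer_singleton_iff.2 (h c hc.1 (mem_centralizer_singleton_iff.1 hc.2))⟩
  rw [← heq] at hn
  exact mem_centralizer_singleton_iff.1 hn

include hX hR hCT hsimple in
theorem conj_mem_of_normalizing {u : X} (huT : u ∈ T) (hu : (orderOf u).Prime) {n : X}
    (h : ∀ c ∈ T, Commute c u → Commute (n * c * n⁻¹) u) : n * u * n⁻¹ ∈ zpowers u := by
  have hu1 : u ≠ 1 := ne_one_of_orderOf rfl hu.ne_one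
  set D := T ⊓ centralizer ({u} : Set X)
  have hle : normalizer (zpowers u : Set X) ≤ normalizer (D : Set X) := fun g hg => by
    refine mem_normalizer_of_forall fun c hc => ⟨hTn.conj_mem c hc.1 g, ?_⟩
    show g * c * g⁻¹ ∈ centralizer ({u} : Set X)
    obtain ⟨k, hk⟩ := mem_zpowers_iff.1 (mem_zpowers_normalizer (inv_mem hg))
    rw [inv_inv] at hk
    have e : g * u ^ k * g⁻¹ = u := by rw [hk]; group
    have hck : Commute c (u ^ k) :=
      Commute.zpow_right (mem_centralizer_singleton_iff.1 hc.2) k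
    rw [mem_centralizer_singleton_iff]
    calc g * c * g⁻¹ * u = g * (c * u ^ k) * g⁻¹ := by nth_rewrite 1 [← e]; group
      _ = g * (u ^ k * c) * g⁻¹ := by rw [hck.eq]
      _ = u * (g * c * g⁻¹) := by nth_rewrite 2 [← e]; group
  have hne : normalizer (D : Set X) ≠ ⊤ := by
    refine normalizer_ne_top hsimple inf_le_left (fun e => ?_) (fun e => ?_)
    · have : u ∈ D := ⟨huT, mem_centralizer_singleton_iff.2 rfl⟩
      rw [e, mem_bot] at this
      exact hu1 this
    · obtain ⟨c, hc, hcn⟩ := not_central hCT hu1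
      exact hcn (mem_centralizer_singleton_iff.1 (inf_eq_left.1 e hc) : c * u = u * c)
  have hco := hX (zpowers u) (fun e => hu1 (mem_bot.1 (e ▸ mem_zpowers u)))
    (by rw [Nat.card_zpowers]; simpa using twoPrimes_pow hu 1)
  have heq := eq_of_le_of_isCoatom hco hle hne
  refine mem_zpowers_normalizer (heq ▸ mem_normalizer_of_forall fun c hc => ⟨hTn.conj_mem c hc.1 n, ?_⟩)
  exact mem_centralizer_singleton_iff.2 (h c hc.1 (mem_centralizer_singleton_iff.1 hc.2))

/-- The subgroup `⟨x, s⟩` for `s` inverting `x`. -/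
def dih (x s : X) (hs : s * s = 1) (hinv : s * x * s⁻¹ = x⁻¹) : Subgroup X where
  carrier := {g | g ∈ zpowers x ∨ g * s ∈ zpowers x}
  one_mem' := Or.inl (one_mem _)
  mul_mem' {a b} ha hb := by
    have hsi : s⁻¹ = s := inv_eq_of_mul_eq_one_right hs
    have hflip : ∀ c ∈ zpowers x, s * c * s ∈ zpowers x := fun c hc => by
      obtain ⟨k, rfl⟩ := mem_zpowers_iff.1 hc
      nth_rewrite 2 [← hsi]
      rw [← conj_zpow, hinv]
      exact zpow_mem (inv_mem (mem_zpowers x)) k
    rcases ha with ha | ha <;> rcases hb with hb | hb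
    · exact Or.inl (mul_mem ha hb)
    · exact Or.inr (by rw [mul_assoc]; exact mul_mem ha hb)
    · refine Or.inr ?_
      have := mul_mem ha (hflip b hb)
      rwa [show a * s * (s * b * s) = a * (s * s) * b * s by group, hs, mul_one] at this
    · refine Or.inl ?_
      have := mul_mem ha (hflip (b * s) hb)
      rwa [show a * s * (s * (b * s) * s) = a * (s * s) * b * (s * s) by group, hs, mul_one,
        mul_one] at this
  inv_mem' {a} ha := by
    have hsi : s⁻¹ = s := inv_eq_of_mul_eq_one_right hs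
    rcases ha with ha | ha
    · exact Or.inl (inv_mem ha)
    · refine Or.inr ?_
      obtain ⟨k, hk⟩ := mem_zpowers_iff.1 ha
      have e : a⁻¹ * s = s * (x ^ k)⁻¹ * s⁻¹ := by
        calc a⁻¹ * s = s * s * a⁻¹ * s := by rw [hs, one_mul]
          _ = s * (a * s)⁻¹ * s⁻¹ := by rw [_root_.mul_inv_rev, hsi, ← mul_assoc]
          _ = s * (x ^ k)⁻¹ * s⁻¹ := by rw [hk]
      rw [e, ← zpow_neg, ← conj_zpow, hinv]
      exact zpow_mem (inv_mem (mem_zpowers x)) _

include hX hR in
theorem conj_mul_mem {x s y : X} (hx : (orderOf x).Prime) (hx2 : orderOf x ≠ 2) (hs : orderOf s = 2)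
    (hinv : s * x * s⁻¹ = x⁻¹) (hy : y * x * y⁻¹ ∈ zpowers x) : y * s * y⁻¹ * s ∈ zpowers x := by
  have hss : s * s = 1 := by rw [← pow_two, ← hs, pow_orderOf_eq_one]
  have hodd : ∀ c ∈ zpowers x, c * c = 1 → c = 1 := fun c hc h => by
    have h1 : orderOf c ∣ orderOf x := by
      rw [← Nat.card_zpowers x]; simpa using Subgroup.orderOf_dvd_natCard _ hc
    have h2 : orderOf c ∣ 2 := orderOf_dvd_of_pow_eq_one (by rwa [pow_two])
    exact orderOf_eq_one_iff.1 (Nat.eq_one_of_dvd_coprimes
      ((Nat.coprime_primes hx Nat.prime_two).2 hx2) h1 h2)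
  set H := dih x s hss hinv with hHdef
  have hsq : ∀ g ∈ H, g ∈ zpowers x ∨ g * g = 1 := fun g hg => by
    rcases hg with hg | hg
    · exact Or.inl hg
    · refine Or.inr ?_
      obtain ⟨k, hk⟩ := mem_zpowers_iff.1 hg
      have e : g = x ^ k * s := by rw [hk, mul_assoc, hss, mul_one]
      calc g * g = x ^ k * (s * x ^ k * s⁻¹) * (s * s) := by rw [e]; group
        _ = 1 := by rw [← conj_zpow, hinv, hss, inv_zpow, mul_one, mul_inv_cancel]
  have htp : TwoPrimes (Nat.card H) := by
    refine ⟨orderOf x, 2, hx, Nat.prime_two, fun r hr hrd => ?_⟩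
    haveI : Fact r.Prime := ⟨hr⟩
    obtain ⟨⟨g, hg⟩, hgo⟩ := exists_prime_orderOf_dvd_card' (G := H) r hrd
    rw [orderOf_mk] at hgo
    rcases hsq g hg with h | h
    · left
      refine (Nat.prime_dvd_prime_iff_eq hr hx).1 ?_
      rw [← hgo, ← Nat.card_zpowers x]
      exact Subgroup.orderOf_dvd_natCard _ h
    · right
      exact (Nat.prime_dvd_prime_iff_eq hr Nat.prime_two).1
        (hgo ▸ orderOf_dvd_of_pow_eq_one (by rwa [pow_two]))
  have hx1 : x ≠ 1 := ne_one_of_orderOf rfl hx.ne_one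
  have hxH : x ∈ H := Or.inl (mem_zpowers x)
  have hle : normalizer (H : Set X) ≤ normalizer (zpowers x : Set X) := fun g hg => by
    refine normalizer_zpowers_of_conj ((hsq _ ((mem_normalizer_iff.1 hg x).1 hxH)).resolve_right fun h => ?_)
    refine hx1 (hodd x (mem_zpowers x) ?_)
    rw [conj_mul] at h
    exact conj_eq_one_iff.1 h
  have heq := eq_of_le_of_isCoatom (hX H (fun e => hx1 (mem_bot.1 (e ▸ hxH))) htp) hle
    (zpowers_normalizer_ne_top hR hx1)
  have hsH : s ∈ H := Or.inr (by rw [hss]; exact one_mem _)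
  have := (mem_normalizer_iff.1 (heq ▸ normalizer_zpowers_of_conj hy) s).1 hsH
  rcases this with h | h
  · exfalso
    refine ne_one_of_orderOf hs (by omega) (conj_eq_one_iff.1 (hodd _ h ?_))
    rw [conj_mul, hss, mul_one, mul_inv_cancel]
  · exact h

include hX hR hCT hsimple in
theorem loc : Loc T := by
  refine ⟨fun t ht n h => ?_, fun t x n ht hx hx2 hc hn => ?_, fun u hu n h => ?_,
    fun x s y hx hx2 hs hinv hy => ?_⟩
  · exact Subtype.ext (commute_of_normalizing hX hR hCT hsimple t.2 ((orderOf_coe t).trans ht)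
      fun c hc hcc => (h ⟨c, hc⟩ (Subtype.ext hcc)).map T.subtype)
  · have h1 : (x : X) ≠ 1 := fun e => hx.ne_one (orderOf_eq_one_iff.2 (Subtype.ext e))
    have h2 := normalizer_zpowers_eq hX hR ((orderOf_coe t).trans ht) hx hx2
      (k := 1) ((orderOf_coe x).trans (pow_one _).symm) h1 (hc.map T.subtype)
    obtain ⟨k, hk⟩ := mem_zpowers_iff.1 hn
    have h3 : (n : X) ∈ centralizer ({(t : X)} : Set X) :=
      h2 ▸ normalizer_zpowers_of_conj (mem_zpowers_iff.2 ⟨k, congrArg Subtype.val hk⟩)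
    exact Subtype.ext (mem_centralizer_singleton_iff.1 h3)
  · have := conj_mem_of_normalizing hX hR hCT hsimple u.2 (by rwa [orderOf_coe]) (n := (n : X))
      fun c hc hcc => (h ⟨c, hc⟩ (Subtype.ext hcc)).map T.subtype
    obtain ⟨k, hk⟩ := mem_zpowers_iff.1 this
    exact mem_zpowers_iff.2 ⟨k, Subtype.ext hk⟩
  · obtain ⟨k, hk⟩ := mem_zpowers_iff.1 hy
    obtain ⟨j, hj⟩ := mem_zpowers_iff.1 (conj_mul_mem hX hR (x := (x : X)) (s := (s : X)) (y := (y : X))
      (by rwa [orderOf_coe]) (by rwa [orderOf_coe]) ((orderOf_coe s).trans hs)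
      (congrArg Subtype.val hinv) (mem_zpowers_iff.2 ⟨k, congrArg Subtype.val hk⟩))
    exact mem_zpowers_iff.2 ⟨j, Subtype.ext hj⟩

include hX hR in
theorem hasNormalPComplement {t : T} (ht : orderOf t = 2) :
    Cfsg.HasNormalPComplement 2 ↥(centralizer ({t} : Set T)) := by
  haveI : Fact (Nat.Prime 2) := ⟨Nat.prime_two⟩
  refine Transfer.Frobenius.hasNormalPComplement_of_condition fun Q hQ g hg hgo q hq => ?_
  have hodd : Odd (orderOf (g : T)) := by
    rw [orderOf_coe]; exact Nat.coprime_two_right.1 hgo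
  have hcg : Commute ((g : T) : X) (t : X) :=
    (show Commute (g : T) t from mem_centralizer_singleton_iff.1 g.2).map T.subtype
  have hcq : Commute ((q : T) : X) (t : X) :=
    (show Commute (q : T) t from mem_centralizer_singleton_iff.1 q.2).map T.subtype
  obtain ⟨k, hk⟩ := mem_zpowers_iff.1
    (conj_mem_zpowers hX hR ((orderOf_coe t).trans ht) hcq _ _ rfl (by rwa [orderOf_coe]) hcg)
  have hk' : q * g * q⁻¹ = g ^ k := Subtype.ext (Subtype.ext (by simpa using hk.symm))
  -- the commutator lies in both subgroups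
  have hwQ : q * (g * q⁻¹ * g⁻¹) ∈ Q := mul_mem hq ((mem_normalizer_iff.1 hg _).1 (inv_mem hq))
  have hwg : q * (g * q⁻¹ * g⁻¹) ∈ zpowers g := by
    rw [show q * (g * q⁻¹ * g⁻¹) = q * g * q⁻¹ * g⁻¹ by group, hk']
    exact mul_mem (zpow_mem (mem_zpowers g) k) (inv_mem (mem_zpowers g))
  have hone : q * (g * q⁻¹ * g⁻¹) = 1 := by
    obtain ⟨a, ha⟩ := hQ ⟨_, hwQ⟩
    have h1 : orderOf (q * (g * q⁻¹ * g⁻¹)) ∣ 2 ^ a :=
      orderOf_dvd_of_pow_eq_one (congrArg Subtype.val ha)
    have h2 : orderOf (q * (g * q⁻¹ * g⁻¹)) ∣ orderOf g := by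
      rw [← Nat.card_zpowers g]; exact Subgroup.orderOf_dvd_natCard _ hwg
    exact orderOf_eq_one_iff.1 (Nat.eq_one_of_dvd_coprimes ((Nat.Coprime.symm hgo).pow_left a) h1 h2)
  calc q * g = q * (g * q⁻¹ * g⁻¹) * (g * q) := by group
    _ = g * q := by rw [hone, one_mul]

/-- Transport of the local conditions. -/
theorem Loc.of_equiv {L : Type*} [Group L] {M : Type*} [Group M] (e : L ≃* M) (h : Loc L) : Loc M := by
  have hmem : ∀ x y : L, e y ∈ zpowers (e x) → y ∈ zpowers x := fun x y hy => by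
    obtain ⟨k, hk⟩ := mem_zpowers_iff.1 hy
    exact mem_zpowers_iff.2 ⟨k, e.injective (by rw [map_zpow, hk])⟩
  have hmem' : ∀ x y : L, y ∈ zpowers x → e y ∈ zpowers (e x) := fun x y hy => by
    obtain ⟨k, hk⟩ := mem_zpowers_iff.1 hy
    exact mem_zpowers_iff.2 ⟨k, by rw [← map_zpow, hk]⟩
  have hcom : ∀ x y : L, Commute (e x) (e y) → Commute x y := fun x y hxy => e.injective (by
    rw [map_mul, map_mul]; exact hxy)
  constructor
  · intro t ht n hn
    obtain ⟨t, rfl⟩ := e.surjective t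
    obtain ⟨n, rfl⟩ := e.surjective n
    rw [MulEquiv.orderOf_eq] at ht
    refine (h.cent t ht n fun c hc => hcom _ _ ?_).map e
    simpa using hn (e c) (hc.map e)
  · intro t x n ht hx hx2 hc hn
    obtain ⟨t, rfl⟩ := e.surjective t
    obtain ⟨n, rfl⟩ := e.surjective n
    obtain ⟨x, rfl⟩ := e.surjective x
    rw [MulEquiv.orderOf_eq] at ht hx hx2
    exact (h.odd_conj t x n ht hx hx2 (hcom _ _ hc) (hmem _ _ (by simpa using hn))).map e
  · intro u hu n hn
    obtain ⟨u, rfl⟩ := e.surjective u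
    obtain ⟨n, rfl⟩ := e.surjective n
    rw [MulEquiv.orderOf_eq] at hu
    have := hmem' _ _ (h.uni u hu n fun c hc => hcom _ _ (by simpa using hn (e c) (hc.map e)))
    simpa using this
  · intro x s y hx hx2 hs hinv hy
    obtain ⟨x, rfl⟩ := e.surjective x
    obtain ⟨s, rfl⟩ := e.surjective s
    obtain ⟨y, rfl⟩ := e.surjective y
    rw [MulEquiv.orderOf_eq] at hx hx2 hs
    have := hmem' _ _ (h.dihedral x s y hx hx2 hs (e.injective (by simpa using hinv))
      (hmem _ _ (by simpa using hy)))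
    simpa using this

end Cfsg.Agent.MaxNormalizer.Local
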