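import Mathlib

/-!
# An odd group all of whose cyclic primary subgroups are normal is abelian
-/

set_option autoImplicit false
set_option linter.unusedSectionVars false
set_option linter.style.haveILetI false

namespace Cfsg.Agent.MaxNormalizer.Odd

/-- the power of a product when the commutator commutes with both factors -/
theorem mul_pow_of_central {S : Type*} [Group S] {y z d : S} (h : z * y = y * z * d)
    (hy : Commute d y) (hz : Commute d z) (n : ℕ) :
    (y * z) ^ n = y ^ n * z ^ n * d ^ (n.choose 2) := by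
  have hzn : ∀ k : ℕ, z ^ k * y = y * z ^ k * d ^ k := by
    intro k
    induction k with
    | zero => simp
    | succ k ih =>
      calc z ^ (k + 1) * y = z * (z ^ k * y) := by rw [pow_succ']; group
        _ = (z * y) * (z ^ k * d ^ k) := by rw [ih]; group
        _ = y * z * (d * z ^ k) * d ^ k := by rw [h]; group
        _ = y * z * (z ^ k * d) * d ^ k := by rw [(hz.pow_right k).eq]
        _ = y * (z * z ^ k) * (d * d ^ k) := by group
        _ = _ := by rw [← pow_succ', ← pow_succ']
  induction n with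
  | zero => simp
  | succ n ih =>
    have hc : n.choose 2 + n = (n + 1).choose 2 := by
      rw [Nat.choose_succ_succ, Nat.choose_one_right, add_comm]
    calc (y * z) ^ (n + 1) = y ^ n * z ^ n * (d ^ n.choose 2 * (y * z)) := by
          rw [pow_succ, ih]; group
      _ = y ^ n * z ^ n * (y * z * d ^ n.choose 2) := by
          rw [((hy.mul_right hz).pow_left _).eq]
      _ = y ^ n * (z ^ n * y) * z * d ^ n.choose 2 := by group
      _ = y ^ n * y * z ^ n * (d ^ n * z) * d ^ n.choose 2 := by rw [hzn]; group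
      _ = y ^ n * y * z ^ n * (z * d ^ n) * d ^ n.choose 2 := by rw [(hz.pow_left n).eq]
      _ = (y ^ n * y) * (z ^ n * z) * (d ^ n * d ^ n.choose 2) := by group
      _ = _ := by rw [← pow_succ, ← pow_succ, ← pow_add, Nat.add_comm n (n.choose 2), hc]

theorem comm_zpowers {S : Type*} [Group S] {a b x : S} (ha : a ∈ Subgroup.zpowers x)
    (hb : b ∈ Subgroup.zpowers x) : Commute a b := by
  obtain ⟨i, rfl⟩ := Subgroup.mem_zpowers_iff.1 ha
  obtain ⟨j, rfl⟩ := Subgroup.mem_zpowers_iff.1 hb
  exact (Commute.refl x).zpow_zpow i j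

variable {S : Type*} [Group S] [Finite S]

/-- two elements of `p`-power order commute, by induction on the sum of the orders -/
theorem same_prime (h : ∀ (p k : ℕ) (x : S), p.Prime → orderOf x = p ^ k →
      ∀ g : S, g * x * g⁻¹ ∈ Subgroup.zpowers x)
    {p : ℕ} (hp : p.Prime) (hp2 : p ≠ 2) : ∀ (N a b : ℕ) (x y : S), a + b ≤ N →
    orderOf x = p ^ a → orderOf y = p ^ b → b ≤ a → Commute x y := by
  intro N
  induction N using Nat.strong_induction_on with
  | _ N ih =>
    intro a b x y hN hx hy hba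
    -- smaller pairs commute, in either order
    have small : ∀ (a' b' : ℕ) (x' y' : S), a' + b' < N → orderOf x' = p ^ a' →
        orderOf y' = p ^ b' → Commute x' y' := by
      intro a' b' x' y' hlt h1 h2
      rcases le_total b' a' with hle | hle
      · exact ih _ hlt a' b' x' y' le_rfl h1 h2 hle
      · exact (ih _ hlt b' a' y' x' (by omega) h2 h1 hle).symm
    by_contra hxy
    have hb0 : b ≠ 0 := fun k => hxy (by
      rw [k, pow_zero] at hy; rw [orderOf_eq_one_iff.1 hy]; exact Commute.one_right x)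
    obtain ⟨a', rfl⟩ : ∃ a', a = a' + 1 := ⟨a - 1, by omega⟩
    have hNN : a' + 1 + b ≤ N := hN
    -- the commutator
    set c := x⁻¹ * y⁻¹ * x * y with hc
    have hnx := h p _ x hp hx
    have hny := h p _ y hp hy
    have hcx : c ∈ Subgroup.zpowers x := by
      rw [hc, show x⁻¹ * y⁻¹ * x * y = x⁻¹ * (y⁻¹ * x * y⁻¹⁻¹) by group]
      exact mul_mem (inv_mem (Subgroup.mem_zpowers x)) (hnx _)
    have hcy : c ∈ Subgroup.zpowers y := by
      rw [hc, show x⁻¹ * y⁻¹ * x * y = (x⁻¹ * y * x⁻¹⁻¹)⁻¹ * y by group]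
      exact mul_mem (inv_mem (hny _)) (Subgroup.mem_zpowers y)
    have hcomx : Commute c x := comm_zpowers hcx (Subgroup.mem_zpowers x)
    have hcomy : Commute c y := comm_zpowers hcy (Subgroup.mem_zpowers y)
    have hc1 : c ≠ 1 := fun k => hxy (by
      show x * y = y * x
      calc x * y = y * x * c := by rw [hc]; group
        _ = y * x := by rw [k, mul_one])
    -- `x ^ p` commutes with `y`, so `c ^ p = 1`
    have hxp : orderOf (x ^ p) = p ^ a' := by
      rw [orderOf_pow' _ hp.ne_zero, hx,
        Nat.gcd_eq_right (dvd_pow_self p (by omega : a' + 1 ≠ 0)), pow_succ,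
        Nat.mul_div_cancel _ hp.pos]
    have hxpy : Commute (x ^ p) y := small a' b _ _ (by omega) hxp hy
    have hconj : y⁻¹ * x * y = x * c := by rw [hc]; group
    have hcp : c ^ p = 1 := by
      have h1 : y⁻¹ * x ^ p * y⁻¹⁻¹ = (x * c) ^ p := by rw [← conj_pow, inv_inv, hconj]
      rw [hcomx.symm.mul_pow, inv_inv, mul_assoc, hxpy.eq, ← mul_assoc, inv_mul_cancel, one_mul]
        at h1
      exact left_eq_mul.1 h1
    -- a power of `x` inside `⟨y⟩` and conversely
    obtain ⟨i, hi⟩ := Subgroup.mem_zpowers_iff.1 hcx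
    obtain ⟨j, hj⟩ : ∃ j : ℕ, y ^ j = c := by
      rw [← mem_powers_iff_mem_zpowers] at hcy
      exact Submonoid.mem_powers_iff _ _ |>.1 hcy
    -- the largest power of `y` lying in `⟨x⟩`
    classical
    have hex : ∃ e : ℕ, y ^ p ^ e ∈ Subgroup.zpowers x :=
      ⟨b, by rw [← hy, pow_orderOf_eq_one]; exact one_mem _⟩
    set e := Nat.find hex with he
    have hemem : y ^ p ^ e ∈ Subgroup.zpowers x := Nat.find_spec hex
    have he0 : e ≠ 0 := fun k => hxy (by
      have hmem := hemem
      rw [k, pow_zero, pow_one] at hmem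
      exact comm_zpowers (Subgroup.mem_zpowers x) hmem)
    have hye1 : y ^ p ^ e ≠ 1 := by
      intro k
      obtain ⟨g, hg⟩ : ∃ g : ℕ, orderOf y = p ^ g ∧ True := ⟨b, hy, trivial⟩
      -- then `c`, a power of `y` lying in `⟨x⟩`, would be trivial
      apply hc1
      obtain ⟨u, v, hv, rfl⟩ : ∃ u v : ℕ, ¬ p ∣ v ∧ j = p ^ u * v := by
        have hj0 : j ≠ 0 := fun k0 => hc1 (by rw [← hj, k0, pow_zero])
        exact ⟨_, _, Nat.not_dvd_ordCompl hp hj0, (Nat.ordProj_mul_ordCompl_eq_self j p).symm⟩
      have hmem : y ^ p ^ u ∈ Subgroup.zpowers x := by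
        have hco : Nat.Coprime v (orderOf (y ^ p ^ u)) := by
          have : orderOf (y ^ p ^ u) ∣ p ^ b := hy ▸ orderOf_pow_dvd _
          exact Nat.Coprime.coprime_dvd_right this
            ((hp.coprime_iff_not_dvd.2 hv).symm.pow_right b)
        obtain ⟨w, hw⟩ := exists_pow_eq_self_of_coprime hco
        rw [← hw]
        refine pow_mem ?_ w
        rw [← pow_mul, hj]
        exact hcx
      have heu : e ≤ u := Nat.find_min' hex hmem
      rw [← hj, show p ^ u * v = p ^ e * (p ^ (u - e) * v) by
        rw [← mul_assoc, ← pow_add, Nat.add_sub_cancel' heu], pow_mul, k, one_pow]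
    have heb : e < b := by
      by_contra hge
      exact hye1 (by
        rw [show p ^ e = p ^ b * p ^ (e - b) by rw [← pow_add, Nat.add_sub_cancel' (not_lt.1 hge)],
          pow_mul, ← hy, pow_orderOf_eq_one, one_pow])
    -- `y ^ p ^ e` is a `p ^ e`-th power in `⟨x⟩`
    obtain ⟨m, hm⟩ : ∃ m : ℕ, x ^ m = y ^ p ^ e := by
      have := hemem
      rw [← mem_powers_iff_mem_zpowers] at this
      exact Submonoid.mem_powers_iff _ _ |>.1 this
    have hdvd : p ^ e ∣ m := by
      have h1 : x ^ (m * p ^ (b - e)) = 1 := by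
        rw [pow_mul, hm, ← pow_mul, ← pow_add, Nat.add_sub_cancel' heb.le, ← hy, pow_orderOf_eq_one]
      have h2 := orderOf_dvd_of_pow_eq_one h1
      rw [hx, show a' + 1 = (a' + 1 - (b - e)) + (b - e) by omega, pow_add,
        Nat.mul_dvd_mul_iff_right (pow_pos hp.pos _)] at h2
      exact (pow_dvd_pow p (by omega)).trans h2
    obtain ⟨n, rfl⟩ := hdvd
    set z := (x ^ n)⁻¹ with hz
    -- `z` and `y` have commutator a power of `c`
    have hconjz : y⁻¹ * z * y = z * (c ^ n)⁻¹ := by
      have h1 : y⁻¹ * x ^ n * y⁻¹⁻¹ = x ^ n * c ^ n := by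
        rw [← conj_pow, inv_inv, hconj, hcomx.symm.mul_pow]
      rw [inv_inv] at h1
      have h2 : y⁻¹ * z * y = (y⁻¹ * x ^ n * y)⁻¹ := by rw [hz]; group
      rw [h2, h1, mul_inv_rev, hz]
      exact ((hcomx.pow_pow n n).inv_inv).eq
    have hd : z * y = y * z * (c ^ n)⁻¹ := by
      calc z * y = y * (y⁻¹ * z * y) := by group
        _ = _ := by rw [hconjz]; group
    have hdy : Commute (c ^ n)⁻¹ y := (hcomy.pow_left n).inv_left
    have hdz : Commute (c ^ n)⁻¹ z := by
      rw [hz]; exact ((hcomx.pow_pow n n).inv_inv)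
    have hpow : (y * z) ^ p ^ e = 1 := by
      rw [mul_pow_of_central hd hdy hdz]
      have hch : p ∣ (p ^ e).choose 2 :=
        hp.dvd_choose_pow (by norm_num) (fun k => by
          have h2 : (p ^ e) % 2 = 1 := Nat.odd_iff.1 ((hp.odd_of_ne_two hp2).pow)
          omega)
      obtain ⟨t, ht⟩ := hch
      have hdp : ((c ^ n)⁻¹) ^ p = 1 := by
        rw [inv_pow, ← pow_mul, mul_comm, pow_mul, hcp, one_pow, inv_one]
      rw [ht, pow_mul, hdp, one_pow, mul_one, hz, inv_pow, ← pow_mul, mul_comm n (p ^ e), hm,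
        mul_inv_cancel]
    obtain ⟨b', hb', hoyz⟩ := (Nat.dvd_prime_pow hp).1 (orderOf_dvd_of_pow_eq_one hpow)
    have hcm : Commute x (y * z) := small (a' + 1) b' x (y * z) (by omega) hx hoyz
    apply hxy
    have h1 : Commute x (y * z * z⁻¹) :=
      hcm.mul_right (by rw [hz, inv_inv]; exact (Commute.refl x).pow_right n)
    rwa [mul_inv_cancel_right] at h1

/-- An odd group in which every cyclic primary subgroup is normal is abelian. -/
theorem isMulCommutative (hodd : Odd (Nat.card S))
    (h : ∀ (p k : ℕ) (x : S), p.Prime → orderOf x = p ^ k →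
      ∀ g : S, g * x * g⁻¹ ∈ Subgroup.zpowers x) : IsMulCommutative S := by
  classical
  -- elements of prime power order commute
  have hpp : ∀ x y : S, ∀ p q a b : ℕ, p.Prime → q.Prime → orderOf x = p ^ a → orderOf y = q ^ b →
      Commute x y := by
    intro x y p q a b hp hq hx hy
    rcases eq_or_ne p q with rfl | hne
    · have hp2 : p ≠ 2 ∨ a = 0 := by
        by_contra hcon
        push Not at hcon
        have h2 : 2 ∣ Nat.card S := by
          have := hx ▸ orderOf_dvd_natCard x
          rw [hcon.1] at this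
          exact (dvd_pow_self 2 hcon.2).trans this
        exact (Nat.not_even_iff_odd.2 hodd) (even_iff_two_dvd.2 h2)
      rcases hp2 with hp2 | ha
      · rcases le_total b a with hle | hle
        · exact same_prime h hp hp2 _ a b x y le_rfl hx hy hle
        · exact (same_prime h hp hp2 _ b a y x le_rfl hy hx hle).symm
      · rw [ha, pow_zero] at hx
        rw [orderOf_eq_one_iff.1 hx]
        exact Commute.one_left y
    · set c := x⁻¹ * y⁻¹ * x * y with hc
      have hcx : c ∈ Subgroup.zpowers x := by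
        rw [hc, show x⁻¹ * y⁻¹ * x * y = x⁻¹ * (y⁻¹ * x * y⁻¹⁻¹) by group]
        exact mul_mem (inv_mem (Subgroup.mem_zpowers x)) (h p a x hp hx _)
      have hcy : c ∈ Subgroup.zpowers y := by
        rw [hc, show x⁻¹ * y⁻¹ * x * y = (x⁻¹ * y * x⁻¹⁻¹)⁻¹ * y by group]
        exact mul_mem (inv_mem (h q b y hq hy _)) (Subgroup.mem_zpowers y)
      have hbot : Subgroup.zpowers x ⊓ Subgroup.zpowers y = ⊥ :=
        Subgroup.inf_eq_bot_of_coprime (by
          rw [Nat.card_zpowers, Nat.card_zpowers, hx, hy]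
          exact Nat.Coprime.pow a b ((Nat.coprime_primes hp hq).2 hne))
      have hc1 : c = 1 := by
        have : c ∈ Subgroup.zpowers x ⊓ Subgroup.zpowers y := ⟨hcx, hcy⟩
        rwa [hbot, Subgroup.mem_bot] at this
      show x * y = y * x
      calc x * y = y * x * c := by rw [hc]; group
        _ = y * x := by rw [hc1, mul_one]
  -- they generate
  let T : Set S := {x | ∃ p a : ℕ, p.Prime ∧ orderOf x = p ^ a}
  have hgen : Subgroup.closure T = ⊤ := by
    refine Subgroup.eq_top_of_card_eq _ (Nat.dvd_antisymm (Subgroup.card_subgroup_dvd_card _) ?_)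
    refine (Nat.dvd_iff_prime_pow_dvd_dvd _ _).2 fun p k hp hk => ?_
    haveI := Fact.mk hp
    obtain ⟨P, hP⟩ := Sylow.exists_subgroup_card_pow_prime p hk
    have hle : P ≤ Subgroup.closure T := fun z hz => Subgroup.subset_closure (by
      obtain ⟨j, -, hj⟩ := (Nat.dvd_prime_pow hp).1 (hP ▸ Subgroup.orderOf_dvd_natCard P hz)
      exact ⟨p, j, hp, hj⟩)
    exact hP ▸ Subgroup.card_dvd_of_le hle
  refine ⟨⟨fun x y => ?_⟩⟩
  have hx : x ∈ Subgroup.centralizer T := by
    have hle : Subgroup.closure T ≤ Subgroup.centralizer T := (Subgroup.closure_le _).2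
      fun u ⟨p, a, hp, hu⟩ => Subgroup.mem_centralizer_iff.2 fun v ⟨q, b, hq, hv⟩ =>
        hpp v u q p b a hq hp hv hu
    exact hle (hgen ▸ Subgroup.mem_top x)
  have hle : Subgroup.closure T ≤ Subgroup.centralizer {x} := (Subgroup.closure_le _).2 fun u hu =>
    Subgroup.mem_centralizer_singleton_iff.2 (Subgroup.mem_centralizer_iff.1 hx u hu)
  exact (Subgroup.mem_centralizer_singleton_iff.1 (hle (hgen ▸ Subgroup.mem_top y))).symm

end Cfsg.Agent.MaxNormalizer.Odd
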