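import Cfsg.Agent.Lib.MaxNormalizer.Identify
import Cfsg.Agent.Lib.MaxNormalizer.Lift
import Cfsg.Agent.Lib.MaxNormalizer.Odd

/-!
# Nonsolvable groups with maximal normalizers of non-subnormal two-prime subgroups
-/

set_option autoImplicit false
set_option linter.style.haveILetI false

namespace Cfsg.Agent.MaxNormalizer.Main

open Subgroup Cfsg.Agent.MaxNormalizer.Basic

universe u

theorem main {G : Type u} [Group G] [Finite G] (hList : Identify.ListHyp.{u})
    (hG : ¬ Group.IsSolvable G)
    (h : ∀ H : Subgroup G, ¬ H.IsSubnormal → TwoPrimes (Nat.card H) →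
      IsCoatom (normalizer (H : Set G))) :
    ∃ K S : Subgroup G, K.Normal ∧ S.Normal ∧ K ⊓ S = ⊥ ∧ K ⊔ S = ⊤ ∧
      (Nonempty (K ≃* Matrix.ProjectiveSpecialLinearGroup (Fin 2) (ZMod 13)) ∨
        Nonempty (K ≃* Matrix.SpecialLinearGroup (Fin 2) (ZMod 13))) ∧
      IsMulCommutative S ∧ (Nat.card K).Coprime (Nat.card S) := by
  obtain ⟨R, hRn, hRs, hnt, hR, hX, hnorm⟩ := exists_reduction hG h
  haveI := hRn
  haveI := hnt
  obtain ⟨e⟩ := Identify.nonempty_equiv hX hR hList
  set φ : G →* Cover.Q := e.toMonoidHom.comp (QuotientGroup.mk' R) with hφ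
  have hker : φ.ker = R := by
    ext g
    rw [hφ, MonoidHom.mem_ker, MonoidHom.comp_apply, MulEquiv.coe_toMonoidHom, MulEquiv.map_eq_one_iff,
      QuotientGroup.mk'_apply, QuotientGroup.eq_one_iff]
  have hN : Lift.NormHyp φ := by
    intro H hH htp g hg
    rw [hker] at hH
    rw [hnorm H hH htp, mem_comap]
    refine Local.mem_normalizer_of_forall fun y hy => ?_
    obtain ⟨x, hx, rfl⟩ := hy
    obtain ⟨z, hz, hze⟩ := hg x hx
    refine ⟨z, hz, e.injective ?_⟩
    simpa [hφ] using hze
  haveI := hRs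
  refine Lift.main hN (e.surjective.comp (QuotientGroup.mk'_surjective R))
    (Group.isSolvable_of_isSolvable_injective (Subgroup.inclusion_injective hker.le)) ?_
  intro S hS hcyc
  exact Odd.isMulCommutative hS hcyc

end Cfsg.Agent.MaxNormalizer.Main
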