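import Cfsg.Agent.Lib.MaxNormalizer.Local
import Cfsg.Agent.Lib.CIT.GenModelsThree
import Cfsg.Agent.Lib.Suzuki.LieEquiv
import Cfsg.Agent.Lib.Suzuki.Local

/-!
# The models excluded by self-normalizing involution centralizers
-/

set_option autoImplicit false
set_option linter.unusedSectionVars false
set_option linter.style.haveILetI false

namespace Cfsg.Agent.MaxNormalizer.Models

open Cfsg.Agent.MaxNormalizer.Local Matrix
open scoped MatrixGroups

/-- Two conjugate involutions with nested centralizers contradict self-normalization. -/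
theorem false_of_nested {L : Type*} [Group L] (h : Loc L) {z n : L} (hz : orderOf z = 2)
    (hne : n * z * n⁻¹ ≠ z) (hC : ∀ c, Commute c z → Commute c (n * z * n⁻¹)) : False := by
  have h1 := h.cent z hz n⁻¹ fun c hc => by
    have h2 := (hC c hc).map (MulAut.conj n⁻¹)
    simpa [mul_assoc] using h2
  exact hne (by rw [show n * z = z * n by simpa using h1.inv_left.eq, mul_inv_cancel_right])

theorem card_two_pow_ne {F : Type} [Field F] [Fintype F] (h : 2 < Fintype.card F) :
    ∃ a : Fˣ, a ≠ 1 := by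
  classical
  by_contra hn
  push Not at hn
  have : Fintype.card Fˣ ≤ 1 := Fintype.card_le_one_iff.2 fun a b => by rw [hn a, hn b]
  rw [Fintype.card_units] at this
  omega

variable {F : Type} [Field F] [Fintype F]

theorem ext_mul {k : ℕ} {A B C D : SL(k, F)}
    (h : (A : Matrix (Fin k) (Fin k) F) * (B : Matrix (Fin k) (Fin k) F) =
      (C : Matrix (Fin k) (Fin k) F) * (D : Matrix (Fin k) (Fin k) F)) : A * B = C * D :=
  Subtype.ext h

theorem ext_mul_one {k : ℕ} {A B : SL(k, F)}
    (h : (A : Matrix (Fin k) (Fin k) F) * (B : Matrix (Fin k) (Fin k) F) = 1) : A * B = 1 :=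
  Subtype.ext h

theorem ext_one {k : ℕ} {A : SL(k, F)} (h : (A : Matrix (Fin k) (Fin k) F) = 1) : A = 1 :=
  Subtype.ext h

theorem psl_two_even (h2 : (2 : F) = 0) (hq : 3 < Fintype.card F)
    (h : Loc (Matrix.ProjectiveSpecialLinearGroup (Fin 2) F)) : False := by
  obtain ⟨a, ha⟩ := card_two_pow_ne (F := F) (by omega)
  let E : F → SL(2, F) := fun b => ⟨!![1, b; 0, 1], by simp [det_fin_two]⟩
  have hE : ∀ b, (E b : Matrix (Fin 2) (Fin 2) F) = !![1, b; 0, 1] := fun b => rfl
  let D : SL(2, F) := ⟨!![(a : F), 0; 0, ((a⁻¹ : Fˣ) : F)], by simp [det_fin_two]⟩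
  have hD : (D : Matrix (Fin 2) (Fin 2) F) = !![(a : F), 0; 0, ((a⁻¹ : Fˣ) : F)] := rfl
  set π := QuotientGroup.mk' (Subgroup.center SL(2, F))
  have hinj : Function.Injective π := fun A B e => by
    obtain ⟨c, hc⟩ := (AutPSL.Basic.mk_eq_mk_iff A B).1 e
    have hd := congrArg Matrix.det hc
    rw [B.2, det_smul, A.2, mul_one, Fintype.card_fin] at hd
    have hc1 : c = 1 := by
      have : (c - 1) * (c - 1) = 0 := by linear_combination -hd - (c - 1) * h2
      exact sub_eq_zero.1 (mul_self_eq_zero.1 this)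
    rw [hc1, one_smul] at hc
    exact Subtype.ext hc.symm
  have hconj : D * E 1 = E ((a : F) * a) * D := by
    refine ext_mul ?_
    rw [hE, hE, hD]
    ext i j
    fin_cases i <;> fin_cases j <;> simp [Matrix.mul_apply, Fin.sum_univ_two, mul_assoc]
  refine false_of_nested h (z := π (E 1)) (n := π D) ?_ ?_ ?_
  · refine orderOf_eq_prime ?_ fun e => ?_
    · rw [pow_two, ← map_mul]
      refine (congrArg π (ext_mul_one ?_)).trans (map_one π)
      rw [hE]
      ext i j
      fin_cases i <;> fin_cases j <;> simp [Matrix.mul_apply, Fin.sum_univ_two]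
      linear_combination h2
    · have := congrArg (fun Y : SL(2, F) => (Y : Matrix (Fin 2) (Fin 2) F) 0 1)
        (hinj (e.trans (map_one π).symm))
      simp [hE] at this
  · rw [← map_mul, hconj, map_mul, mul_inv_cancel_right]
    intro e
    have h' : ((a : F) * a) = 1 := by
      simpa [hE] using congrArg (fun Y : SL(2, F) => (Y : Matrix (Fin 2) (Fin 2) F) 0 1) (hinj e)
    have : ((a : F) - 1) * ((a : F) - 1) = 0 := by linear_combination h' - ((a : F) - 1) * h2
    exact ha (Units.ext (sub_eq_zero.1 (mul_self_eq_zero.1 this)))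
  · intro c hc
    obtain ⟨C, rfl⟩ := QuotientGroup.mk'_surjective _ c
    rw [← map_mul π D, hconj, map_mul, mul_inv_cancel_right]
    have h' : C * E 1 = E 1 * C := hinj (by rw [map_mul, map_mul]; exact hc)
    refine Commute.map (?_ : Commute C (E ((a : F) * a))) π
    have e : ∀ i j, _ = _ := fun i j => congrFun (congrFun (congrArg Subtype.val h') i) j
    have e00 := e 0 0
    have e01 := e 0 1
    simp [SpecialLinearGroup.coe_mul, hE, Matrix.mul_apply, Fin.sum_univ_two] at e00 e01
    refine ext_mul ?_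
    rw [hE]
    have hd' : (C : Matrix (Fin 2) (Fin 2) F) 1 1 = (C : Matrix (Fin 2) (Fin 2) F) 0 0 := by
      linear_combination -e01
    ext i j
    fin_cases i <;> fin_cases j <;>
      simp [Matrix.mul_apply, Fin.sum_univ_two, e00, hd', mul_comm, add_comm]

theorem psl_three_four (h4 : Fintype.card F = 4)
    (h : Loc (Matrix.ProjectiveSpecialLinearGroup (Fin 3) F)) : False := by
  have h2 := CIT.Gen.two_eq_zero_four h4
  obtain ⟨a, ha⟩ := card_two_pow_ne (F := F) (by omega)
  let E : F → SL(3, F) := fun b => ⟨!![1, 0, b; 0, 1, 0; 0, 0, 1], by simp [det_fin_three]⟩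
  have hE : ∀ b, (E b : Matrix (Fin 3) (Fin 3) F) = !![1, 0, b; 0, 1, 0; 0, 0, 1] := fun b => rfl
  let D : SL(3, F) := ⟨!![(a : F), 0, 0; 0, ((a⁻¹ : Fˣ) : F), 0; 0, 0, 1], by simp [det_fin_three]⟩
  have hD : (D : Matrix (Fin 3) (Fin 3) F) = !![(a : F), 0, 0; 0, ((a⁻¹ : Fˣ) : F), 0; 0, 0, 1] := rfl
  set π := QuotientGroup.mk' (Subgroup.center SL(3, F))
  have hconj : D * E 1 = E (a : F) * D := by
    refine ext_mul ?_
    rw [hE, hE, hD]
    ext i j
    fin_cases i <;> fin_cases j <;> simp [Matrix.mul_apply, Fin.sum_univ_three]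
  have hEinj : ∀ b b', π (E b) = π (E b') → b = b' := fun b b' e => by
    obtain ⟨c, hc⟩ := (AutPSL.Basic.mk_eq_mk_iff _ _).1 e
    rw [hE, hE] at hc
    have e11 := congrFun (congrFun hc 1) 1
    have e02 := congrFun (congrFun hc 0) 2
    simp at e11 e02
    rw [← e11, one_mul] at e02
    exact e02.symm
  refine false_of_nested h (z := π (E 1)) (n := π D) ?_ ?_ ?_
  · refine orderOf_eq_prime ?_ fun e => ?_
    · rw [pow_two, ← map_mul]
      refine (congrArg π (ext_mul_one ?_)).trans (map_one π)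
      rw [hE]
      ext i j
      fin_cases i <;> fin_cases j <;> simp [Matrix.mul_apply, Fin.sum_univ_three]
      linear_combination h2
    · refine one_ne_zero (α := F) (hEinj 1 0 (e.trans ((congrArg π (ext_one ?_)).trans (map_one π)).symm))
      rw [hE]
      ext i j
      fin_cases i <;> fin_cases j <;> simp
  · rw [← map_mul, hconj, map_mul, mul_inv_cancel_right]
    exact fun e => ha (Units.ext (hEinj _ _ e))
  · intro c hc
    obtain ⟨C, rfl⟩ := QuotientGroup.mk'_surjective _ c
    rw [← map_mul π D, hconj, map_mul, mul_inv_cancel_right]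
    obtain ⟨μ, hμ⟩ := (AutPSL.Basic.mk_eq_mk_iff (C * E 1) (E 1 * C)).1
      (by show π (C * E 1) = π (E 1 * C); rw [map_mul, map_mul]; exact hc)
    replace hμ : (E 1 : Matrix (Fin 3) (Fin 3) F) * (C : Matrix (Fin 3) (Fin 3) F) =
      μ • ((C : Matrix (Fin 3) (Fin 3) F) * (E 1 : Matrix (Fin 3) (Fin 3) F)) := hμ
    -- the scalar is one, by traces
    have hμ1 : μ = 1 := by
      have hC1 : ((C⁻¹ : SL(3, F)) : Matrix (Fin 3) (Fin 3) F) * C = 1 := by
        exact congrArg Subtype.val (inv_mul_cancel C)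
      have hC2 : (C : Matrix (Fin 3) (Fin 3) F) * ((C⁻¹ : SL(3, F)) : Matrix (Fin 3) (Fin 3) F) = 1 := by
        exact congrArg Subtype.val (mul_inv_cancel C)
      have h' := congrArg (fun A => Matrix.trace (A * ((C⁻¹ : SL(3, F)) : Matrix (Fin 3) (Fin 3) F))) hμ
      simp only [Matrix.smul_mul, mul_assoc, hC2, mul_one, Matrix.trace_smul, smul_eq_mul] at h'
      rw [Matrix.trace_mul_comm (C : Matrix (Fin 3) (Fin 3) F), mul_assoc, hC1, mul_one, hE,
        Matrix.trace_fin_three] at h'
      simp at h'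
      linear_combination -h' + (1 - μ) * h2
    rw [hμ1, one_smul] at hμ
    refine Commute.map (?_ : Commute C (E (a : F))) π
    refine ext_mul ?_
    rw [hE]
    rw [hE] at hμ
    have e : ∀ i j, _ = _ := fun i j => congrFun (congrFun hμ i) j
    have e00 := e 0 0
    have e02 := e 0 2
    have e01 := e 0 1
    have e12 := e 1 2
    simp [Matrix.mul_apply, Fin.sum_univ_three] at e00 e02 e01 e12
    have hd' : (C : Matrix (Fin 3) (Fin 3) F) 2 2 = (C : Matrix (Fin 3) (Fin 3) F) 0 0 := by
      linear_combination e02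
    ext i j
    fin_cases i <;> fin_cases j <;>
      simp [Matrix.mul_apply, Fin.sum_univ_three, e00, e01, e12, hd', mul_comm, add_comm]

theorem suzuki {m : ℕ} (hm : 1 ≤ m) (hF : Fintype.card F = 2 ^ (2 * m + 1))
    (h : Loc (Cfsg.Sz F m)) : False := by
  haveI : Fact (Nat.Prime 2) := ⟨Nat.prime_two⟩
  haveI : CharP F 2 := charP_of_card_eq_prime_pow hF
  obtain ⟨s, hs⟩ := card_two_pow_ne (F := F) (by
    rw [hF]; calc 2 < 2 ^ 2 := by norm_num
      _ ≤ _ := Nat.pow_le_pow_right two_pos (by omega))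
  refine false_of_nested h (z := Suzuki.tr hF 0 1) (n := Suzuki.tor hF s)
    (Suzuki.orderOf_center_tr hF one_ne_zero) (fun e => one_ne_zero (Suzuki.tor_free hm hF hs e).2) ?_
  intro c hc
  rw [Suzuki.conj_tr]
  have hfix : c • Suzuki.infty (F := F) m = Suzuki.infty m := by
    have h1 : Suzuki.tr hF 0 1 • (c • Suzuki.infty (F := F) m) = c • Suzuki.infty m := by
      rw [← mul_smul, ← hc.eq, mul_smul, Suzuki.tr_smul_infty]
    rcases Suzuki.cases_point (c • Suzuki.infty (F := F) m) with e | ⟨x, y, e⟩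
    · exact e
    · rw [e, Suzuki.tr_smul_point] at h1
      have := (Suzuki.point_injective h1).2
      exact absurd (by simpa using this : (1 : F) = 0) one_ne_zero
  obtain ⟨a, b, r, rfl⟩ := Suzuki.exists_tr_to hm hF hfix
  have hcen : ∀ β : F, Commute (Suzuki.tr hF a b : Cfsg.Sz F m) (Suzuki.tr hF 0 β) := fun β => by
    show (_ : Cfsg.Sz F m) = _
    rw [Suzuki.tr_mul, Suzuki.tr_mul]
    simp [add_comm]
  have hr : r = 1 := by
    by_contra hr
    refine one_ne_zero (α := F) (Suzuki.tor_free hm hF hr (a := 0) (b := 1) ?_).2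
    have h1 : Suzuki.tr hF a b * (Suzuki.tor hF r * Suzuki.tr hF 0 1 * (Suzuki.tor hF r)⁻¹) *
        (Suzuki.tr hF a b)⁻¹ = Suzuki.tr hF 0 1 := by
      calc _ = Suzuki.tr hF a b * Suzuki.tor hF r * Suzuki.tr hF 0 1 *
            (Suzuki.tr hF a b * Suzuki.tor hF r)⁻¹ := by group
        _ = _ := by rw [hc.eq, mul_inv_cancel_right]
    rw [Suzuki.conj_tr, mul_zero, (hcen _).eq, mul_inv_cancel_right] at h1
    rw [Suzuki.conj_tr, mul_zero, h1]
  rw [hr, Suzuki.tor_one, mul_one, mul_zero]
  exact hcen _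

theorem alternating_seven (h : Loc (alternatingGroup (Fin 7))) : False := by
  let t : alternatingGroup (Fin 7) :=
    ⟨Equiv.swap 0 1 * Equiv.swap 2 3, by rw [Equiv.Perm.mem_alternatingGroup]; decide⟩
  let x : alternatingGroup (Fin 7) :=
    ⟨Equiv.swap 4 5 * Equiv.swap 5 6, by rw [Equiv.Perm.mem_alternatingGroup]; decide⟩
  let n : alternatingGroup (Fin 7) :=
    ⟨Equiv.swap 0 1 * Equiv.swap 1 2, by rw [Equiv.Perm.mem_alternatingGroup]; decide⟩
  haveI : Fact (Nat.Prime 3) := ⟨Nat.prime_three⟩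
  haveI : Fact (Nat.Prime 2) := ⟨Nat.prime_two⟩
  have ht : orderOf t = 2 := orderOf_eq_prime (by decide +kernel) (by decide +kernel)
  have hx : orderOf x = 3 := orderOf_eq_prime (by decide +kernel) (by decide +kernel)
  have hn : n * x * n⁻¹ = x := by decide +kernel
  have := h.odd_conj t x n ht (hx ▸ Nat.prime_three) (by omega)
    (show x * t = t * x by decide +kernel) (by rw [hn]; exact Subgroup.mem_zpowers x)
  exact absurd (show n * t = t * n from this) (by decide +kernel)

end Cfsg.Agent.MaxNormalizer.Models
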